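import Mathlib
import Cfsg.Agent.Lib.Classical.OmegaDesc
import Cfsg.Agent.Lib.Orth.HypBasis
import Cfsg.Agent.Lib.Classical.QuadOrders

set_option autoImplicit false
set_option linter.unusedSectionVars false
set_option linter.unusedVariables false
set_option linter.unusedSimpArgs false
set_option linter.style.haveILetI false

/-!
Elements of given orders in orthogonal groups in even characteristic: the predicate `Has`,
orthogonal sums, elements of order `q ^ d + 1` on forms of minus type and of order `q ^ d - 1`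
on forms of plus type.
-/

namespace Cfsg.Agent.Lib.SpEight.Atoms

open Module QuadraticMap
open Cfsg.Agent.Lib.Classical.Quad Cfsg.Agent.Lib.Classical.QuadOrders Cfsg.Agent.Lib.Classical.QuadHyp
open Cfsg.Agent.Lib.QuadFn.MaxSingular Cfsg.Agent.Lib.Orth.HypBasis Cfsg.Agent.Lib.Classical.OmegaDesc
open Cfsg.Agent.Lib.Orth.Spin Cfsg.Agent.Lib.Orth.Wall

universe u v w

section has

variable {F : Type u} [Field F] {V : Type v} {W : Type w} [AddCommGroup V] [Module F V]
  [AddCommGroup W] [Module F W]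

/-- The quadratic form `Q` has an isometry of order `r`. -/
def Has (Q : QuadraticForm F V) (r : ℕ) : Prop := ∃ g : oGroup Q, orderOf g = r

theorem Has.congr {Q : QuadraticForm F V} {Q' : QuadraticForm F W} (e : V ≃ₗ[F] W)
    (he : ∀ x, Q' (e x) = Q x) {r : ℕ} (h : Has Q r) : Has Q' r := by
  obtain ⟨g, rfl⟩ := h
  exact ⟨oGroupEquiv e he g, MulEquiv.orderOf_eq _ _⟩

theorem has_of_equiv {Q : QuadraticForm F V} (g : V ≃ₗ[F] V) (hg : ∀ x, Q (g x) = Q x) {r : ℕ}
    (h : orderOf g = r) : Has Q r := by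
  have hg' : g ∈ oGroup Q := hg
  exact ⟨⟨g, hg'⟩, by rw [Subgroup.orderOf_mk]; exact h⟩

/-- The product of isometries on an orthogonal sum. -/
noncomputable def prodHom (Q₁ : QuadraticForm F V) (Q₂ : QuadraticForm F W) :
    oGroup Q₁ × oGroup Q₂ →* oGroup (Q₁.prod Q₂) where
  toFun p := ⟨LinearEquiv.prodCongr p.1.1 p.2.1, fun x => by
    show (Q₁.prod Q₂) (p.1.1 x.1, p.2.1 x.2) = _
    rw [prod_apply, prod_apply, p.1.2, p.2.2]⟩
  map_one' := by
    apply Subtype.ext
    ext x <;> rfl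
  map_mul' a b := by
    apply Subtype.ext
    ext x <;> rfl

theorem prodHom_injective (Q₁ : QuadraticForm F V) (Q₂ : QuadraticForm F W) :
    Function.Injective (prodHom Q₁ Q₂) := by
  rintro ⟨a₁, a₂⟩ ⟨b₁, b₂⟩ h
  have h1 := congrArg Subtype.val h
  have h2 : ∀ x y, (a₁.1 x, a₂.1 y) = (b₁.1 x, b₂.1 y) := fun x y =>
    DFunLike.congr_fun h1 (x, y)
  refine Prod.ext (Subtype.ext ?_) (Subtype.ext ?_)
  · ext x
    exact congrArg Prod.fst (h2 x 0)
  · ext x
    exact congrArg Prod.snd (h2 0 x)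

theorem Has.prod {Q₁ : QuadraticForm F V} {Q₂ : QuadraticForm F W} {r s : ℕ} (h₁ : Has Q₁ r)
    (h₂ : Has Q₂ s) : Has (Q₁.prod Q₂) (Nat.lcm r s) := by
  obtain ⟨g₁, rfl⟩ := h₁
  obtain ⟨g₂, rfl⟩ := h₂
  refine ⟨prodHom Q₁ Q₂ (g₁, g₂), ?_⟩
  rw [orderOf_injective _ (prodHom_injective Q₁ Q₂), Prod.orderOf_mk]

theorem Has.pow {Q : QuadraticForm F V} {r s : ℕ} (h : Has Q (r * s)) (hr : r ≠ 0) (hs : s ≠ 0) : Has Q s := by
  obtain ⟨g, hg⟩ := h
  refine ⟨g ^ r, ?_⟩
  rw [orderOf_pow_of_dvd hr (hg ▸ dvd_mul_right r s), hg]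
  exact Nat.mul_div_cancel_left _ (Nat.pos_of_ne_zero hr)

/-- An isometry of order `r` and Dickson parity `ε`. -/
def PA (Q : QuadraticForm F V) (r : ℕ) (ε : ZMod 2) : Prop :=
  ∃ g : V ≃ₗ[F] V, (∀ x, Q (g x) = Q x) ∧ orderOf g = r ∧ rp g = ε

theorem PA.toHas {Q : QuadraticForm F V} {r : ℕ} {ε : ZMod 2} (h : PA Q r ε) : Has Q r := by
  obtain ⟨g, hg, ho, -⟩ := h
  exact has_of_equiv g hg ho

/-- The conjugate isometry. -/
theorem movSp_conj (e : V ≃ₗ[F] W) (g : V ≃ₗ[F] V) :
    movSp (e.symm.trans (g.trans e)) = (movSp g).map (e : V →ₗ[F] W) := by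
  ext y
  rw [mem_movSp, Submodule.mem_map]
  constructor
  · rintro ⟨x, rfl⟩
    refine ⟨e.symm x - g (e.symm x), ?_, ?_⟩
    · exact sub_mem_movSp g _
    · simp
  · rintro ⟨_, ⟨u, rfl⟩, rfl⟩
    refine ⟨e u, ?_⟩
    simp

theorem rk_conj (e : V ≃ₗ[F] W) (g : V ≃ₗ[F] V) : rk (e.symm.trans (g.trans e)) = rk g := by
  show finrank F (movSp _) = finrank F (movSp g)
  rw [movSp_conj]
  exact LinearEquiv.finrank_map_eq e _

theorem pow_conj_apply (e : V ≃ₗ[F] W) (g : V ≃ₗ[F] V) (i : ℕ) (x : V) :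
    ((e.symm.trans (g.trans e)) ^ i) (e x) = e ((g ^ i) x) := by
  induction i generalizing x with
  | zero => rfl
  | succ i ih =>
    rw [pow_succ, LinearEquiv.mul_apply, pow_succ, LinearEquiv.mul_apply]
    have : (e.symm.trans (g.trans e)) (e x) = e (g x) := by simp
    rw [this, ih]

theorem orderOf_conj (e : V ≃ₗ[F] W) (g : V ≃ₗ[F] V) : orderOf (e.symm.trans (g.trans e)) = orderOf g := by
  apply Nat.dvd_antisymm
  · apply orderOf_dvd_of_pow_eq_one
    ext x
    obtain ⟨u, rfl⟩ := e.surjective x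
    rw [pow_conj_apply, pow_orderOf_eq_one]
    rfl
  · apply orderOf_dvd_of_pow_eq_one
    ext x
    apply e.injective
    rw [← pow_conj_apply, pow_orderOf_eq_one]
    rfl

theorem PA.congr {Q : QuadraticForm F V} {Q' : QuadraticForm F W} (e : V ≃ₗ[F] W)
    (he : ∀ x, Q' (e x) = Q x) {r : ℕ} {ε : ZMod 2} (h : PA Q r ε) : PA Q' r ε := by
  obtain ⟨g, hg, ho, hε⟩ := h
  refine ⟨e.symm.trans (g.trans e), fun x => ?_, by rw [orderOf_conj, ho], ?_⟩
  · show Q' (e (g (e.symm x))) = Q' x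
    rw [he, hg, ← he, e.apply_symm_apply]
  · rw [← hε]
    show ((rk _ : ℕ) : ZMod 2) = ((rk g : ℕ) : ZMod 2)
    rw [rk_conj]

theorem rk_of_fixfree [FiniteDimensional F V] {g : V ≃ₗ[F] V} (h : ∀ x, g x = x → x = 0) : rk g = finrank F V := by
  have h1 := LinearMap.finrank_range_add_finrank_ker ((LinearMap.id : V →ₗ[F] V) - (g : V →ₗ[F] V))
  have h2 : LinearMap.ker ((LinearMap.id : V →ₗ[F] V) - (g : V →ₗ[F] V)) = ⊥ := by
    rw [LinearMap.ker_eq_bot']
    intro x hx
    apply h
    have : x - g x = 0 := hx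
    exact (sub_eq_zero.1 this).symm
  rw [h2, finrank_bot, add_zero] at h1
  exact h1

end has

section field

variable {F : Type u} [Field F] {E : Type v} [Field E] [Algebra F E]

/-- Multiplication by units as a linear automorphism. -/
noncomputable def mulHom : Eˣ →* (E ≃ₗ[F] E) where
  toFun u :=
    { toFun := fun x => (u : E) * x
      invFun := fun x => ((u⁻¹ : Eˣ) : E) * x
      map_add' := mul_add _
      map_smul' := fun c x => by simp [mul_smul_comm]
      left_inv := fun x => by simp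
      right_inv := fun x => by simp }
  map_one' := by
    ext x
    simp
  map_mul' a b := by
    ext x
    simp [mul_assoc]

@[simp] theorem mulHom_apply (u : Eˣ) (x : E) : mulHom (F := F) u x = (u : E) * x := rfl

theorem mulHom_injective : Function.Injective (mulHom (F := F) (E := E)) := by
  intro a b h
  have h1 := DFunLike.congr_fun h 1
  simp only [mulHom_apply, mul_one] at h1
  exact Units.ext h1

/-- The form `x ↦ l (x * σ x)`. -/
noncomputable def normForm (σ : E →ₐ[F] E) (l : E →ₗ[F] F) : QuadraticForm F E :=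
  LinearMap.BilinMap.toQuadraticMap (LinearMap.mk₂ F (fun x y => l (x * σ y))
    (fun a b c => by rw [add_mul, map_add])
    (fun c a b => by rw [smul_mul_assoc, map_smul])
    (fun a b c => by rw [map_add, mul_add, map_add])
    (fun c a b => by rw [map_smul, mul_smul_comm, map_smul]))

theorem normForm_apply (σ : E →ₐ[F] E) (l : E →ₗ[F] F) (x : E) :
    normForm σ l x = l (x * σ x) := rfl

theorem polar_normForm (σ : E →ₐ[F] E) (l : E →ₗ[F] F) (x y : E) :
    polar (normForm σ l) x y = l (x * σ y) + l (y * σ x) := by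
  unfold polar
  simp only [normForm_apply, map_add, mul_add, add_mul]
  ring

theorem normForm_nondeg (σ : E →ₐ[F] E) (l : E →ₗ[F] F) (hσ : ∀ x, σ (σ x) = x) {z : E}
    (hz : l (z + σ z) ≠ 0) : (polarBilin (normForm σ l)).Nondegenerate := by
  apply nondeg_of_sep
  intro x hx
  by_contra hx0
  apply hz
  have h1 := hx (σ (z / x))
  rw [polar_normForm, hσ, mul_div_cancel₀ _ hx0, ← map_mul, div_mul_cancel₀ _ hx0, ← map_add] at h1
  exact h1

/-- A free action on the nonzero vectors of a stable set: counting. -/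
theorem card_dvd_of_free [Finite E] (C : Subgroup Eˣ) (S : Set E) (h0 : (0 : E) ∈ S)
    (hS : ∀ c ∈ C, ∀ x ∈ S, ((c : Eˣ) : E) * x ∈ S) : Nat.card C ∣ Nat.card S - 1 := by
  classical
  let T : SubMulAction C Eˣ :=
    { carrier := {u | (u : E) ∈ S}
      smul_mem' := fun c u hu => by
        show ((c : Eˣ) * u : Eˣ).1 ∈ S
        rw [Units.val_mul]
        exact hS c c.2 _ hu }
  have hfree : ∀ t : T, MulAction.stabilizer C t = ⊥ := by
    intro t
    rw [eq_bot_iff]
    intro c hc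
    rw [MulAction.mem_stabilizer_iff] at hc
    have h1 : (c : Eˣ) * (t : Eˣ) = t := congrArg Subtype.val hc
    have h2 : (c : Eˣ) = 1 := by simpa using h1
    rw [Subgroup.mem_bot]
    exact Subtype.ext h2
  have h1 : Nat.card T = Nat.card (Quotient (MulAction.orbitRel C T)) * Nat.card C := by
    rw [Nat.card_congr (MulAction.selfEquivOrbitsQuotientProd hfree), Nat.card_prod]
  have h2 : Nat.card S = Nat.card T + 1 := by
    have hbij : Function.Bijective (fun o : Option T => match o with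
      | none => (⟨0, h0⟩ : S)
      | some t => ⟨((t : Eˣ) : E), t.2⟩) := by
      constructor
      · rintro (_ | s) (_ | t) h
        · rfl
        · exfalso
          have := congrArg Subtype.val h
          exact (t : Eˣ).ne_zero this.symm
        · exfalso
          have := congrArg Subtype.val h
          exact (s : Eˣ).ne_zero this
        · have := congrArg Subtype.val h
          congr 1
          exact Subtype.ext (Units.ext this)
      · rintro ⟨x, hx⟩
        by_cases hx0 : x = 0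
        · subst hx0
          exact ⟨none, rfl⟩
        · exact ⟨some ⟨Units.mk0 x hx0, hx⟩, rfl⟩
    rw [← Nat.card_congr (Equiv.ofBijective _ hbij), Finite.card_option]
  rw [h2, Nat.add_sub_cancel, h1]
  exact dvd_mul_left _ _

end field

section numeric

/-- The count of zeros of a plus-type form is not congruent to one. -/
theorem numeric_plus {q k Z : ℕ} (hq : 2 ≤ q) (hq2 : 2 ∣ q)
    (hZ : Z + q ^ k = q ^ (2 * k + 1) + q ^ (k + 1)) (hd : q ^ (k + 1) + 1 ∣ Z - 1) : False := by
  set r := q ^ k with hr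
  have hr1 : 1 ≤ r := Nat.one_le_pow _ _ (by omega)
  have h1 : q ^ (k + 1) = q * r := by rw [pow_succ, mul_comm]
  have h2 : q ^ (2 * k + 1) = q * (r * r) := by
    rw [pow_succ, two_mul, pow_add, mul_comm]
  rw [h1] at hd
  rw [h1, h2] at hZ
  have hqr : 2 * r ≤ q * r := Nat.mul_le_mul_right _ hq
  obtain ⟨Y, rfl⟩ : ∃ Y, Z = Y + 1 := ⟨Z - 1, by omega⟩
  rw [Nat.add_sub_cancel] at hd
  have hodd : Nat.Coprime (q * r + 1) 2 := by
    apply Nat.Coprime.symm
    apply (Nat.Prime.coprime_iff_not_dvd Nat.prime_two).2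
    obtain ⟨t, ht⟩ := hq2
    have : q * r = 2 * (t * r) := by rw [ht]; ring
    omega
  have hdvd : q * r + 1 ∣ 2 * (r + 1) := by
    have h4 : (q * r + 1) * (r + 1) = q * (r * r) + q * r + r + 1 := by ring
    have h5 : Y + 2 * (r + 1) = (q * r + 1) * (r + 1) := by omega
    have h6 : q * r + 1 ∣ Y + 2 * (r + 1) := ⟨_, h5⟩
    exact (Nat.dvd_add_right hd).mp h6
  have hdvd2 : q * r + 1 ∣ r + 1 := hodd.dvd_of_dvd_mul_left hdvd
  have hle := Nat.le_of_dvd (by omega) hdvd2
  omega

end numeric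

section T

variable {F : Type u} [Field F] [Finite F] [CharP F 2]

/-- The Frobenius power as an algebra map. -/
theorem exists_frob {E : Type v} [Field E] [Finite E] [Algebra F E] (d : ℕ) :
    ∃ σ : E →ₐ[F] E, ∀ x, σ x = x ^ (Nat.card F ^ d) := by
  classical
  haveI := Fintype.ofFinite F
  haveI := Fintype.ofFinite E
  let σ₀ : E ≃ₐ[F] E := FiniteField.frobeniusAlgEquivOfAlgebraic F E
  refine ⟨((σ₀ ^ d : E ≃ₐ[F] E) : E →ₐ[F] E), fun x => ?_⟩
  have h1 : (⇑(σ₀ ^ d)) = (⇑σ₀)^[d] := AlgEquiv.coe_pow σ₀ _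
  show (σ₀ ^ d) x = _
  rw [h1, FiniteField.coe_frobeniusAlgEquivOfAlgebraic_iterate, Nat.card_eq_fintype_card]

/-- The norm-one element and the form it preserves. -/
theorem has_T_aux {E : Type v} [Field E] [Finite E] [Algebra F E] {k : ℕ}
    (hfr : finrank F E = 2 * (k + 1)) {a b : F}
    (hab : ∀ z₁ z₂ : F, z₁ ^ 2 + a * z₁ * z₂ + b * z₂ ^ 2 = 0 → z₁ = 0 ∧ z₂ = 0) :
    PA (qMinus k a b) (Nat.card F ^ (k + 1) + 1) 0 := by
  classical
  haveI : Module.Finite F E := .of_finite
  set q := Nat.card F with hq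
  have hq2 : 2 ≤ q := Finite.one_lt_card
  have hq_even : 2 ∣ q := by
    haveI := Fintype.ofFinite F
    obtain ⟨n, hn, hn'⟩ := FiniteField.card F 2
    rw [hq, Nat.card_eq_fintype_card, hn']
    exact dvd_pow_self 2 n.ne_zero
  have hcardE : Nat.card E = q ^ (2 * (k + 1)) := by
    rw [← hfr]
    exact Module.natCard_eq_pow_finrank (K := F) (V := E)
  have hQ1 : 1 ≤ q ^ (k + 1) := Nat.one_le_pow _ _ (by omega)
  have hE1 : q ^ (2 * (k + 1)) - 1 = (q ^ (k + 1) + 1) * (q ^ (k + 1) - 1) := by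
    obtain ⟨t, ht⟩ : ∃ t, q ^ (k + 1) = t + 1 := ⟨q ^ (k + 1) - 1, by omega⟩
    rw [two_mul, pow_add, ht]
    simp only [Nat.add_sub_cancel]
    exact Nat.sub_eq_of_eq_add (by ring)
  obtain ⟨σ, hσ⟩ := exists_frob (F := F) (E := E) (k + 1)
  haveI hE2 : CharP E 2 := charP_of_injective_algebraMap (algebraMap F E).injective 2
  have hpow : ∀ x : E, x ^ (q ^ (2 * (k + 1))) = x := by
    intro x
    rw [← hcardE]
    haveI := Fintype.ofFinite E
    rw [Nat.card_eq_fintype_card]
    exact FiniteField.pow_card x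
  have hσ2 : ∀ x, σ (σ x) = x := by
    intro x
    rw [hσ, hσ, ← pow_mul, ← pow_add, ← two_mul]
    exact hpow x
  obtain ⟨ζ, hζ⟩ := IsCyclic.exists_ofOrder_eq_natCard (α := Eˣ)
  have hcardU : Nat.card Eˣ = q ^ (2 * (k + 1)) - 1 := by
    rw [Nat.card_units, hcardE]
  rw [hcardU, hE1] at hζ
  have hne : q ^ (k + 1) - 1 ≠ 0 := by
    have : 2 ^ (k + 1) ≤ q ^ (k + 1) := Nat.pow_le_pow_left hq2 _
    have : 2 ^ 1 ≤ 2 ^ (k + 1) := Nat.pow_le_pow_right (by norm_num) (by omega)
    omega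
  -- the element of order `q ^ (k + 1) + 1`
  set w : Eˣ := ζ ^ (q ^ (k + 1) - 1) with hw
  have hwo : orderOf w = q ^ (k + 1) + 1 := by
    rw [hw, orderOf_pow_of_dvd hne (hζ ▸ dvd_mul_left _ _), hζ]
    exact Nat.mul_div_cancel _ (Nat.pos_of_ne_zero hne)
  -- a vector moved by the Frobenius
  have hz : ((ζ : E) + σ ζ) ≠ 0 := by
    intro h
    have h1 : σ ζ = ζ := by
      have : σ ζ = - (ζ : E) := eq_neg_of_add_eq_zero_right h
      rw [this, CharTwo.neg_eq]
    rw [hσ] at h1
    have h2 : ζ ^ (q ^ (k + 1) - 1) = 1 := by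
      apply Units.ext
      have h3 : (ζ : E) ^ (q ^ (k + 1) - 1) * ζ = 1 * ζ := by
        rw [← pow_succ, Nat.sub_add_cancel hQ1, h1, one_mul]
      have h4 := mul_right_cancel₀ ζ.ne_zero h3
      simpa using h4
    have h3 := orderOf_dvd_of_pow_eq_one h2
    rw [hζ] at h3
    have h4 := Nat.le_of_dvd (Nat.pos_of_ne_zero hne) h3
    have h5 : q ^ (k + 1) - 1 < (q ^ (k + 1) + 1) * (q ^ (k + 1) - 1) := by
      have : 0 < q ^ (k + 1) - 1 := Nat.pos_of_ne_zero hne
      nlinarith
    omega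
  obtain ⟨l, hl⟩ : ∃ l : E →ₗ[F] F, l ((ζ : E) + σ ζ) ≠ 0 := by
    by_contra hcon
    push Not at hcon
    exact hz ((Module.forall_dual_apply_eq_zero_iff F _).1 hcon)
  set Q := normForm σ l with hQdef
  have hN : (polarBilin Q).Nondegenerate := normForm_nondeg σ l hσ2 hl
  -- every power of `w` has norm one
  have hnorm : ∀ c ∈ Subgroup.zpowers w, ((c : Eˣ) : E) * σ (c : Eˣ) = 1 := by
    intro c hc
    obtain ⟨n, rfl⟩ := Subgroup.mem_zpowers_iff.1 hc
    have h1 : (w ^ n) ^ (q ^ (k + 1) + 1) = 1 := by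
      rw [← zpow_natCast, ← zpow_mul, mul_comm, zpow_mul, zpow_natCast, ← hwo, pow_orderOf_eq_one, one_zpow]
    have h2 := congrArg (Units.val) h1
    rw [hσ, ← pow_succ']
    simpa using h2
  have hisom : ∀ c ∈ Subgroup.zpowers w, ∀ x, Q (((c : Eˣ) : E) * x) = Q x := by
    intro c hc x
    rw [hQdef, normForm_apply, normForm_apply, map_mul σ]
    congr 1
    calc ((c : Eˣ) : E) * x * (σ (c : Eˣ) * σ x) = (((c : Eˣ) : E) * σ (c : Eˣ)) * (x * σ x) := by ring
      _ = x * σ x := by rw [hnorm c hc, one_mul]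
  have hT : PA Q (q ^ (k + 1) + 1) 0 := by
    refine ⟨mulHom (F := F) w, fun x => hisom w (Subgroup.mem_zpowers w) x, ?_, ?_⟩
    · rw [orderOf_injective _ mulHom_injective, hwo]
    · have hfix : ∀ x, mulHom (F := F) w x = x → x = 0 := by
        intro x hx
        by_contra hx0
        have h1 : (w : E) * x = 1 * x := by rw [one_mul]; exact hx
        have h2 : (w : E) = 1 := mul_right_cancel₀ hx0 h1
        have h3 : w = 1 := Units.ext h2
        have h4 : orderOf w = 1 := by rw [h3, orderOf_one]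
        rw [hwo] at h4
        omega
      show ((rk _ : ℕ) : ZMod 2) = 0
      rw [rk_of_fixfree hfix, hfr]
      push_cast
      have h2' : ((2 : ℕ) : ZMod 2) = 0 := by decide
      simp only [Nat.cast_ofNat] at h2'
      rw [h2', zero_mul]
  -- there is no totally singular subspace of half the dimension
  have hL : ¬ ∃ U : Submodule F E, TS (⇑Q) U ∧ finrank F U = k + 1 := by
    rintro ⟨U, hU, hUd⟩
    obtain ⟨Θ, hΘ⟩ := exists_equiv_plus_of_ts hN (m := k + 1) hfr hU hUd
    have hcount := card_zero_plus (F := F) hq.symm k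
    have hZ : Nat.card {v : Fin (k + 1) ⊕ Fin (k + 1) → F // Cfsg.quadFormPlus (k + 1) F v = 0} =
        Nat.card {x : E // Q x = 0} := by
      apply Nat.card_congr
      exact Θ.toEquiv.subtypeEquiv (fun v => by
        show _ ↔ Q (Θ v) = 0
        rw [hΘ])
    rw [hZ] at hcount
    have hfree := card_dvd_of_free (Subgroup.zpowers w) {x : E | Q x = 0} (map_zero Q)
      (fun c hc x hx => by
        show Q _ = 0
        rw [hisom c hc]
        exact hx)
    rw [Nat.card_zpowers, hwo] at hfree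
    exact numeric_plus hq2 hq_even hcount hfree
  obtain ⟨a₀, b₀, -, hall⟩ := exists_equiv_minus hN (k := k) hfr hL
  obtain ⟨Θ, hΘ⟩ := hall a b hab
  refine hT.congr Θ.symm (fun x => ?_)
  have h1 := hΘ (Θ.symm x)
  rw [Θ.apply_symm_apply] at h1
  rw [h1, ← coe_qMinus]

/-- An isometry of order `q ^ (k + 1) + 1` on the minus-type form of dimension `2 (k + 1)`. -/
theorem pa_T (k : ℕ) {a b : F}
    (hab : ∀ z₁ z₂ : F, z₁ ^ 2 + a * z₁ * z₂ + b * z₂ ^ 2 = 0 → z₁ = 0 ∧ z₂ = 0) :
    PA (qMinus k a b) (Nat.card F ^ (k + 1) + 1) 0 := by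
  haveI : NeZero (2 * (k + 1)) := ⟨by omega⟩
  exact has_T_aux (E := FiniteField.Extension F 2 (2 * (k + 1)))
    (FiniteField.finrank_extension F 2 _) hab

theorem has_T (k : ℕ) {a b : F}
    (hab : ∀ z₁ z₂ : F, z₁ ^ 2 + a * z₁ * z₂ + b * z₂ ^ 2 = 0 → z₁ = 0 ∧ z₂ = 0) :
    Has (qMinus k a b) (Nat.card F ^ (k + 1) + 1) :=
  (pa_T k hab).toHas

end T

section H

variable {F : Type u} [Field F] [Finite F] [CharP F 2]

/-- The form `(x, y) ↦ l (x * y)` on `L × L`. -/
noncomputable def hypForm {L : Type v} [Field L] [Algebra F L] (l : L →ₗ[F] F) : QuadraticForm F (L × L) :=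
  LinearMap.BilinMap.toQuadraticMap (LinearMap.mk₂ F (fun u v => l (u.1 * v.2))
    (fun a b c => by rw [Prod.fst_add, add_mul, map_add])
    (fun c a b => by rw [Prod.smul_fst, smul_mul_assoc, map_smul])
    (fun a b c => by rw [Prod.snd_add, mul_add, map_add])
    (fun c a b => by rw [Prod.smul_snd, mul_smul_comm, map_smul]))

theorem hypForm_apply {L : Type v} [Field L] [Algebra F L] (l : L →ₗ[F] F) (x : L × L) :
    hypForm l x = l (x.1 * x.2) := rfl

theorem polar_hypForm {L : Type v} [Field L] [Algebra F L] (l : L →ₗ[F] F) (x y : L × L) :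
    polar (hypForm l) x y = l (x.1 * y.2) + l (y.1 * x.2) := by
  unfold polar
  simp only [hypForm_apply, Prod.fst_add, Prod.snd_add, map_add, mul_add, add_mul]
  ring

/-- A unit acting as `(u, u⁻¹)`. -/
noncomputable def diagHom {L : Type v} [Field L] [Algebra F L] : Lˣ →* ((L × L) ≃ₗ[F] (L × L)) where
  toFun u := LinearEquiv.prodCongr (mulHom (F := F) u) (mulHom (F := F) u⁻¹)
  map_one' := by
    ext x <;> simp
  map_mul' a b := by
    ext x <;> simp [mul_assoc, mul_comm]

theorem diagHom_injective {L : Type v} [Field L] [Algebra F L] :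
    Function.Injective (diagHom (F := F) (L := L)) := by
  intro a b h
  have h1 : ((a : L) * 1, ((a⁻¹ : Lˣ) : L) * 0) = ((b : L) * 1, ((b⁻¹ : Lˣ) : L) * 0) :=
    DFunLike.congr_fun h (1, 0)
  have h2 := congrArg Prod.fst h1
  simp only [mul_one] at h2
  exact Units.ext h2

theorem has_H_aux {L : Type v} [Field L] [Finite L] [Algebra F L] {d : ℕ} (hfr : finrank F L = d)
    (hd : 1 ≤ d) : PA (qPlus d F) (Nat.card F ^ d - 1) 0 := by
  classical
  haveI : Module.Finite F L := .of_finite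
  set q := Nat.card F with hq
  have hcardL : Nat.card L = q ^ d := by
    rw [← hfr]
    exact Module.natCard_eq_pow_finrank (K := F) (V := L)
  obtain ⟨l, hl⟩ : ∃ l : L →ₗ[F] F, l 1 ≠ 0 := by
    by_contra hcon
    push Not at hcon
    exact one_ne_zero ((Module.forall_dual_apply_eq_zero_iff F (1 : L)).1 hcon)
  have hN : (polarBilin (hypForm l)).Nondegenerate := by
    apply nondeg_of_sep
    rintro ⟨x, y⟩ h
    have hx : x = 0 := by
      by_contra hx0
      have h1 := h (0, x⁻¹)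
      rw [polar_hypForm] at h1
      simp only [zero_mul, map_zero, add_zero, mul_inv_cancel₀ hx0] at h1
      exact hl h1
    have hy : y = 0 := by
      by_contra hy0
      have h1 := h (y⁻¹, 0)
      rw [polar_hypForm] at h1
      simp only [mul_zero, map_zero, zero_add, inv_mul_cancel₀ hy0] at h1
      exact hl h1
    rw [hx, hy]
    rfl
  obtain ⟨ζ, hζ⟩ := IsCyclic.exists_ofOrder_eq_natCard (α := Lˣ)
  have hcardU : Nat.card Lˣ = q ^ d - 1 := by
    rw [Nat.card_units, hcardL]
  rw [hcardU] at hζ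
  have hdim : finrank F (L × L) = 2 * d := by
    rw [Module.finrank_prod, hfr]
    ring
  have hH : PA (hypForm l) (q ^ d - 1) 0 := by
    refine ⟨diagHom (F := F) ζ, fun x => ?_, ?_, ?_⟩
    · show hypForm l ((ζ : L) * x.1, ((ζ⁻¹ : Lˣ) : L) * x.2) = _
      rw [hypForm_apply, hypForm_apply]
      congr 1
      simp only
      calc (ζ : L) * x.1 * (((ζ⁻¹ : Lˣ) : L) * x.2) = ((ζ : L) * ((ζ⁻¹ : Lˣ) : L)) * (x.1 * x.2) := by ring
        _ = x.1 * x.2 := by simp
    · rw [orderOf_injective _ diagHom_injective, hζ]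
    · by_cases hζ1 : ζ = 1
      · rw [hζ1, map_one]
        exact rp_one
      · have hfix : ∀ x, diagHom (F := F) ζ x = x → x = 0 := by
          rintro ⟨x, y⟩ hx
          have h1 : ((ζ : L) * x, ((ζ⁻¹ : Lˣ) : L) * y) = (x, y) := hx
          have hx0 : x = 0 := by
            by_contra hx0
            have h2 : (ζ : L) * x = 1 * x := by rw [one_mul]; exact congrArg Prod.fst h1
            exact hζ1 (Units.ext (mul_right_cancel₀ hx0 h2))
          have hy0 : y = 0 := by
            by_contra hy0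
            have h2 : ((ζ⁻¹ : Lˣ) : L) * y = 1 * y := by rw [one_mul]; exact congrArg Prod.snd h1
            have h3 : ζ⁻¹ = 1 := Units.ext (mul_right_cancel₀ hy0 h2)
            exact hζ1 (inv_eq_one.1 h3)
          rw [hx0, hy0]
          rfl
        show ((rk _ : ℕ) : ZMod 2) = 0
        rw [rk_of_fixfree hfix, hdim]
        push_cast
        have h2' : ((2 : ℕ) : ZMod 2) = 0 := by decide
        simp only [Nat.cast_ofNat] at h2'
        rw [h2', zero_mul]
  let U : Submodule F (L × L) := LinearMap.range (LinearMap.inl F L L)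
  have hU : TS (⇑(hypForm l)) U := by
    rintro _ ⟨x, rfl⟩
    show hypForm l (x, 0) = 0
    rw [hypForm_apply]
    simp
  have hUd : finrank F U = d := by
    rw [LinearMap.finrank_range_of_inj LinearMap.inl_injective, hfr]
  obtain ⟨Θ, hΘ⟩ := exists_equiv_plus_of_ts hN (m := d) hdim hU hUd
  refine hH.congr Θ.symm (fun x => ?_)
  have h1 := hΘ (Θ.symm x)
  rw [Θ.apply_symm_apply] at h1
  rw [h1, coe_qPlus]

/-- An isometry of order `q ^ d - 1` on the plus-type form of dimension `2 d`. -/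
theorem pa_H {d : ℕ} (hd : 1 ≤ d) : PA (qPlus d F) (Nat.card F ^ d - 1) 0 := by
  haveI : NeZero d := ⟨by omega⟩
  exact has_H_aux (L := FiniteField.Extension F 2 d) (FiniteField.finrank_extension F 2 _) hd

theorem has_H {d : ℕ} (hd : 1 ≤ d) : Has (qPlus d F) (Nat.card F ^ d - 1) :=
  (pa_H hd).toHas

end H

end Cfsg.Agent.Lib.SpEight.Atoms
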