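import Mathlib
import Cfsg.Agent.Lib.SpEight.Atoms

set_option autoImplicit false
set_option linter.unusedSectionVars false
set_option linter.unusedVariables false
set_option linter.unusedSimpArgs false
set_option linter.style.haveILetI false

/-!
Orthogonal sums of the standard forms and small unipotent elements.
-/

namespace Cfsg.Agent.Lib.SpEight.Models

open Module QuadraticMap
open Cfsg.Agent.Lib.Classical.Quad Cfsg.Agent.Lib.Classical.QuadOrders Cfsg.Agent.Lib.Classical.QuadHyp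
open Cfsg.Agent.Lib.SpEight.Atoms

universe u

section sums

variable {F : Type u} [Field F] [Finite F]

/-- `H^k ⊥ H^l = H^(k+l)`. -/
noncomputable def plusSum (k l : ℕ) :
    ((Fin k ⊕ Fin k → F) × (Fin l ⊕ Fin l → F)) ≃ₗ[F] (Fin (k + l) ⊕ Fin (k + l) → F) where
  toFun x := Sum.elim (Fin.addCases (fun j => x.1 (Sum.inl j)) (fun j => x.2 (Sum.inl j)))
    (Fin.addCases (fun j => x.1 (Sum.inr j)) (fun j => x.2 (Sum.inr j)))
  invFun v := (Sum.elim (fun j => v (Sum.inl (Fin.castAdd l j))) (fun j => v (Sum.inr (Fin.castAdd l j))),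
    Sum.elim (fun j => v (Sum.inl (Fin.natAdd k j))) (fun j => v (Sum.inr (Fin.natAdd k j))))
  map_add' x y := by
    funext s
    rcases s with i | i <;> refine Fin.addCases (fun j => ?_) (fun j => ?_) i <;> simp
  map_smul' c x := by
    funext s
    rcases s with i | i <;> refine Fin.addCases (fun j => ?_) (fun j => ?_) i <;> simp
  left_inv x := by
    apply Prod.ext <;> funext s <;> rcases s with i | i <;> simp
  right_inv v := by
    funext s
    rcases s with i | i <;> refine Fin.addCases (fun j => ?_) (fun j => ?_) i <;> simp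

theorem plusSum_isom (k l : ℕ) (x : (Fin k ⊕ Fin k → F) × (Fin l ⊕ Fin l → F)) :
    qPlus (k + l) F (plusSum k l x) = qPlus k F x.1 + qPlus l F x.2 := by
  rw [qPlus_apply, qPlus_apply, qPlus_apply, Fin.sum_univ_add]
  simp [plusSum]

theorem has_plus_plus {k l r s : ℕ} (h₁ : Has (qPlus k F) r) (h₂ : Has (qPlus l F) s) :
    Has (qPlus (k + l) F) (Nat.lcm r s) :=
  (h₁.prod h₂).congr (plusSum k l) (fun x => by rw [plusSum_isom, prod_apply])

theorem sumHyp_eq {W : Type*} [AddCommGroup W] [Module F W] (Q₀ : QuadraticForm F W) (m : ℕ)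
    (x : (Fin m ⊕ Fin m → F) × W) : sumHyp Q₀ m x = qPlus m F x.1 + Q₀ x.2 := by
  rw [sumHyp_apply, qPlus_apply]

/-- `((A × B) × C) ≃ ((A × C) × B)`. -/
noncomputable def rearr (A B C : Type*) [AddCommGroup A] [Module F A] [AddCommGroup B] [Module F B]
    [AddCommGroup C] [Module F C] : ((A × B) × C) ≃ₗ[F] ((A × C) × B) where
  toFun x := ((x.1.1, x.2), x.1.2)
  invFun x := ((x.1.1, x.2), x.1.2)
  map_add' x y := rfl
  map_smul' c x := rfl
  left_inv x := rfl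
  right_inv x := rfl

/-- `(H^k ⊥ A) ⊥ H^l = H^(k+l) ⊥ A`. -/
noncomputable def minusSum (k l : ℕ) :
    (((Fin k ⊕ Fin k) ⊕ Fin 2 → F) × (Fin l ⊕ Fin l → F)) ≃ₗ[F]
      ((Fin (k + l) ⊕ Fin (k + l)) ⊕ Fin 2 → F) :=
  ((minusEquiv k F).prodCongr (LinearEquiv.refl F _)).trans
    ((rearr _ _ _).trans (((plusSum k l).prodCongr (LinearEquiv.refl F _)).trans (minusEquiv (k + l) F).symm))

theorem minusSum_isom (k l : ℕ) (a b : F) (x : ((Fin k ⊕ Fin k) ⊕ Fin 2 → F) × (Fin l ⊕ Fin l → F)) :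
    qMinus (k + l) a b (minusSum k l x) = qMinus k a b x.1 + qPlus l F x.2 := by
  rw [← qMinus_apply, ← qMinus_apply, minusSum]
  simp only [LinearEquiv.trans_apply, LinearEquiv.apply_symm_apply]
  rw [sumHyp_eq, sumHyp_eq]
  show qPlus (k + l) F (plusSum k l ((minusEquiv k F x.1).1, x.2)) + qBin a b (minusEquiv k F x.1).2 = _
  rw [plusSum_isom]
  ring

theorem has_minus_plus {k l r s : ℕ} {a b : F} (h₁ : Has (qMinus k a b) r) (h₂ : Has (qPlus l F) s) :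
    Has (qMinus (k + l) a b) (Nat.lcm r s) :=
  (h₁.prod h₂).congr (minusSum k l) (fun x => by rw [minusSum_isom, prod_apply])

/-- The zero-dimensional hyperbolic part. -/
theorem has_minus_zero {a b : F} {r : ℕ} (h : Has (qBin a b) r) : Has (qMinus 0 a b) r := by
  refine h.congr ((sumZero (qBin a b)).symm.trans (minusEquiv 0 F).symm) (fun x => ?_)
  rw [LinearEquiv.trans_apply, ← qMinus_apply, LinearEquiv.apply_symm_apply, ← sumZero_isom,
    LinearEquiv.apply_symm_apply]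

theorem has_minus_zero' {a b : F} {r : ℕ} (h : Has (qMinus 0 a b) r) : Has (qBin a b) r := by
  refine h.congr ((minusEquiv 0 F).trans (sumZero (qBin a b))) (fun x => ?_)
  rw [LinearEquiv.trans_apply, sumZero_isom, qMinus_apply]

/-- The isometry `A ⊥ A = H²`, as a linear map. -/
noncomputable def binSumLin (a b : F) : ((Fin 2 → F) × (Fin 2 → F)) →ₗ[F] (Fin 2 ⊕ Fin 2 → F) where
  toFun x := Sum.elim ![x.1 0 + x.2 0, x.1 1 + x.2 1]
    ![x.1 0 + x.2 0 + a * x.1 1 + a * (x.1 1 + x.2 1), a * x.1 0 + b * (x.1 1 + x.2 1)]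
  map_add' x y := by
    funext s
    rcases s with i | i <;> fin_cases i <;> simp <;> ring
  map_smul' c x := by
    funext s
    rcases s with i | i <;> fin_cases i <;> simp <;> ring

theorem binSumLin_injective [CharP F 2] {a b : F} (ha : a ≠ 0) : Function.Injective (binSumLin a b) := by
  rw [← LinearMap.ker_eq_bot, LinearMap.ker_eq_bot']
  rintro ⟨z, w⟩ h
  have h0 : z 0 + w 0 = 0 := congrFun h (Sum.inl 0)
  have h1 : z 1 + w 1 = 0 := congrFun h (Sum.inl 1)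
  have h2 : z 0 + w 0 + a * z 1 + a * (z 1 + w 1) = 0 := congrFun h (Sum.inr 0)
  have h3 : a * z 0 + b * (z 1 + w 1) = 0 := congrFun h (Sum.inr 1)
  rw [h0, h1] at h2
  rw [h1] at h3
  have hz1 : z 1 = 0 := by
    have : a * z 1 = 0 := by linear_combination h2
    exact (mul_eq_zero.1 this).resolve_left ha
  have hz0 : z 0 = 0 := by
    have : a * z 0 = 0 := by linear_combination h3
    exact (mul_eq_zero.1 this).resolve_left ha
  have hw0 : w 0 = 0 := by rw [hz0, zero_add] at h0; exact h0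
  have hw1 : w 1 = 0 := by rw [hz1, zero_add] at h1; exact h1
  apply Prod.ext <;> funext i <;> fin_cases i <;> simp [hz0, hz1, hw0, hw1]

theorem binSumLin_isom [CharP F 2] (a b : F) (x : (Fin 2 → F) × (Fin 2 → F)) :
    qPlus 2 F (binSumLin a b x) = qBin a b x.1 + qBin a b x.2 := by
  have h2 : (2 : F) = 0 := CharTwo.two_eq_zero
  rw [qPlus_apply, qBin_apply, qBin_apply, Fin.sum_univ_two]
  show (x.1 0 + x.2 0) * (x.1 0 + x.2 0 + a * x.1 1 + a * (x.1 1 + x.2 1)) +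
    (x.1 1 + x.2 1) * (a * x.1 0 + b * (x.1 1 + x.2 1)) = _
  linear_combination (a * x.2 0 * x.1 1 + a * x.2 1 * x.1 0 + a * x.1 0 * x.1 1 + b * x.2 1 * x.1 1 + x.2 0 * x.1 0) * h2

theorem has_bin_bin [CharP F 2] [Finite F] {a b : F} (ha : a ≠ 0) {r s : ℕ} (h₁ : Has (qBin a b) r) (h₂ : Has (qBin a b) s) :
    Has (qPlus 2 F) (Nat.lcm r s) := by
  have hdim : finrank F ((Fin 2 → F) × (Fin 2 → F)) = finrank F (Fin 2 ⊕ Fin 2 → F) := by
    simp [Module.finrank_prod, Module.finrank_fintype_fun_eq_card]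
  refine (h₁.prod h₂).congr (LinearMap.linearEquivOfInjective (binSumLin a b) (binSumLin_injective ha) hdim) (fun x => ?_)
  rw [LinearMap.linearEquivOfInjective_apply, binSumLin_isom, prod_apply]

end sums

section small

variable {F : Type u} [Field F]

/-- Anisotropic forms in characteristic two have `a ≠ 0`. -/
theorem a_ne_zero [Finite F] [CharP F 2] {a b : F}
    (hab : ∀ z₁ z₂ : F, z₁ ^ 2 + a * z₁ * z₂ + b * z₂ ^ 2 = 0 → z₁ = 0 ∧ z₂ = 0) : a ≠ 0 := by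
  rintro rfl
  haveI := Fact.mk Nat.prime_two
  obtain ⟨c, hc⟩ := (Finite.injective_iff_surjective.1 (frobenius_inj F 2)) b
  have hc' : c ^ 2 = b := hc
  have := hab c 1 (by
    rw [hc']
    have h2b : b + b = 0 := CharTwo.add_self_eq_zero b
    simpa using h2b)
  exact one_ne_zero this.2

theorem has_tau {a b : F} (ha : a ≠ 0) : Has (qBin a b) 2 := by
  refine ⟨⟨tauBin a, tauBin_mem a b⟩, orderOf_eq_prime ?_ ?_⟩
  · apply Subtype.ext
    ext v i
    show (tauBin a (tauBin a v)) i = v i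
    exact congrFun ((tauBin a).left_inv v) i
  · intro h
    have h1 := congrArg Subtype.val h
    have h2 : tauBin a ![0, 1] = ![0, 1] := DFunLike.congr_fun h1 _
    have h3 := congrFun h2 0
    have h4 : (tauBin a ![0, 1]) 0 = a := by
      show (![0, 1] : Fin 2 → F) 0 + a * (![0, 1] : Fin 2 → F) 1 = a
      simp
    rw [h4] at h3
    exact ha (by simpa using h3)

theorem has_swap : Has (qPlus 1 F) 2 := by
  refine has_of_equiv (LinearEquiv.funCongrLeft F F (Equiv.sumComm (Fin 1) (Fin 1))) (fun x => ?_) ?_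
  · rw [qPlus_apply, qPlus_apply]
    simp [LinearEquiv.funCongrLeft_apply, mul_comm]
  · apply orderOf_eq_prime
    · ext v s
      rcases s with i | i <;> simp [pow_two, LinearEquiv.funCongrLeft_apply]
    · intro h
      have h1 := DFunLike.congr_fun h (Pi.single (Sum.inl 0) 1)
      have h2 := congrFun h1 (Sum.inl 0)
      simp [LinearEquiv.funCongrLeft_apply] at h2

theorem iter8 {X : Type*} (u : X → X) (x : X) : u^[2 ^ (2 + 1)] x = u (u (u (u (u (u (u (u x))))))) := rfl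

theorem iter4 {X : Type*} (u : X → X) (x : X) : u^[2 ^ 2] x = u (u (u (u x))) := rfl

theorem iter4' {X : Type*} (u : X → X) (x : X) : u^[2 ^ (1 + 1)] x = u (u (u (u x))) := rfl

theorem iter2 {X : Type*} (u : X → X) (x : X) : u^[2 ^ 1] x = u (u x) := rfl

/-- From a linear map of order a power of two to an automorphism of that order. -/
theorem exists_order_of_iterate {V : Type*} [AddCommGroup V] [Module F V] (u : V →ₗ[F] V) (n : ℕ)
    (h : ∀ x, u^[2 ^ (n + 1)] x = x) (hne : ∃ x, u^[2 ^ n] x ≠ x) :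
    ∃ g : V ≃ₗ[F] V, (∀ x, g x = u x) ∧ orderOf g = 2 ^ (n + 1) := by
  have hpos : 2 ^ (n + 1) = 2 ^ (n + 1) - 1 + 1 := by
    have : 0 < 2 ^ (n + 1) := by positivity
    omega
  have hl : Function.LeftInverse (u^[2 ^ (n + 1) - 1]) u := fun x => by
    have := h x
    rw [hpos, Function.iterate_succ_apply] at this
    exact this
  have hr : Function.RightInverse (u^[2 ^ (n + 1) - 1]) u := fun x => by
    have := h x
    rw [hpos, Function.iterate_succ_apply'] at this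
    exact this
  let g : V ≃ₗ[F] V := LinearEquiv.ofBijective u ⟨hl.injective, hr.surjective⟩
  have hg : ∀ x, g x = u x := fun x => rfl
  have hpow : ∀ (m : ℕ) (x : V), (g ^ m) x = u^[m] x := by
    intro m
    induction m with
    | zero => intro x; rfl
    | succ m ih =>
      intro x
      rw [pow_succ, LinearEquiv.mul_apply, ih, hg, Function.iterate_succ_apply]
  refine ⟨g, hg, ?_⟩
  haveI := Fact.mk Nat.prime_two
  apply orderOf_eq_prime_pow
  · intro h1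
    obtain ⟨x, hx⟩ := hne
    apply hx
    rw [← hpow, h1]
    rfl
  · ext x
    rw [hpow, h x]
    rfl

end small

section unip4

variable {F : Type u} [Field F] [CharP F 2]

/-- The unipotent element of order four on `x₁y₁ + x₂y₂`. -/
noncomputable def u4 : (Fin 2 ⊕ Fin 2 → F) →ₗ[F] (Fin 2 ⊕ Fin 2 → F) where
  toFun v := Sum.elim ![v (Sum.inl 0) + v (Sum.inl 1), v (Sum.inr 0) + v (Sum.inr 1)] ![v (Sum.inr 0), v (Sum.inl 1)]
  map_add' x y := by
    funext s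
    rcases s with i | i <;> fin_cases i <;> simp <;> ring
  map_smul' c x := by
    funext s
    rcases s with i | i <;> fin_cases i <;> simp <;> ring

theorem u4_inl0 (v : Fin 2 ⊕ Fin 2 → F) : u4 v (Sum.inl 0) = v (Sum.inl 0) + v (Sum.inl 1) := rfl
theorem u4_inl1 (v : Fin 2 ⊕ Fin 2 → F) : u4 v (Sum.inl 1) = v (Sum.inr 0) + v (Sum.inr 1) := rfl
theorem u4_inr0 (v : Fin 2 ⊕ Fin 2 → F) : u4 v (Sum.inr 0) = v (Sum.inr 0) := rfl
theorem u4_inr1 (v : Fin 2 ⊕ Fin 2 → F) : u4 v (Sum.inr 1) = v (Sum.inl 1) := rfl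

theorem exists_u4 : ∃ g : (Fin 2 ⊕ Fin 2 → F) ≃ₗ[F] (Fin 2 ⊕ Fin 2 → F), (∀ x, g x = u4 x) ∧ orderOf g = 4 := by
  have h2 : (2 : F) = 0 := CharTwo.two_eq_zero
  obtain ⟨g, hg, ho⟩ := exists_order_of_iterate (u4 (F := F)) 1 (fun v => by
      rw [iter4']
      funext s
      rcases s with i | i <;> fin_cases i
      · show u4 (u4 (u4 (u4 v))) (Sum.inl 0) = v (Sum.inl 0)
        simp only [u4_inl0, u4_inl1, u4_inr0, u4_inr1]
        linear_combination (v (Sum.inl 1) + 2 * v (Sum.inr 0) + v (Sum.inr 1)) * h2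
      · show u4 (u4 (u4 (u4 v))) (Sum.inl 1) = v (Sum.inl 1)
        simp only [u4_inl0, u4_inl1, u4_inr0, u4_inr1]
        linear_combination (v (Sum.inr 0)) * h2
      · show u4 (u4 (u4 (u4 v))) (Sum.inr 0) = v (Sum.inr 0)
        simp only [u4_inl0, u4_inl1, u4_inr0, u4_inr1]
      · show u4 (u4 (u4 (u4 v))) (Sum.inr 1) = v (Sum.inr 1)
        simp only [u4_inl0, u4_inl1, u4_inr0, u4_inr1]
        linear_combination (v (Sum.inr 0)) * h2)
    ⟨Pi.single (Sum.inl 1) 1, fun h => by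
      rw [iter2] at h
      have h1 := congrFun h (Sum.inl 0)
      have h3 : u4 (u4 (Pi.single (Sum.inl 1) 1 : Fin 2 ⊕ Fin 2 → F)) (Sum.inl 0) = 1 := by
        simp only [u4_inl0, u4_inl1, u4_inr0, u4_inr1]
        simp
      have h4 : (Pi.single (Sum.inl 1) (1 : F) : Fin 2 ⊕ Fin 2 → F) (Sum.inl 0) = 0 := by simp
      have h5 : u4 (u4 (Pi.single (Sum.inl 1) 1 : Fin 2 ⊕ Fin 2 → F)) (Sum.inl 0) =
          (Pi.single (Sum.inl 1) (1 : F) : Fin 2 ⊕ Fin 2 → F) (Sum.inl 0) := h1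
      rw [h3, h4] at h5
      exact one_ne_zero h5⟩
  exact ⟨g, hg, by simpa using ho⟩

theorem u4_isom (v : Fin 2 ⊕ Fin 2 → F) : qPlus 2 F (u4 v) = qPlus 2 F v := by
  have h2 : (2 : F) = 0 := CharTwo.two_eq_zero
  rw [qPlus_apply, qPlus_apply, Fin.sum_univ_two, Fin.sum_univ_two]
  simp only [u4_inl0, u4_inl1, u4_inr0, u4_inr1]
  linear_combination (v (Sum.inl 1) * v (Sum.inr 0)) * h2

theorem has_u4 : Has (qPlus 2 F) 4 := by
  obtain ⟨g, hg, ho⟩ := exists_u4 (F := F)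
  exact has_of_equiv g (fun v => by rw [hg, u4_isom]) ho

end unip4

section unip8

variable {F : Type u} [Field F] [CharP F 2]

/-- The space of dimension six. -/
abbrev V6 (F : Type u) := (Fin 2 ⊕ Fin 2) ⊕ Fin 2 → F

/-- The unipotent element of order eight on `x₁y₁ + x₂y₂ + z₁² + a z₁z₂ + b z₂²`. -/
noncomputable def u8 (a b : F) : V6 F →ₗ[F] V6 F where
  toFun v := Sum.elim (Sum.elim ![v (Sum.inl (Sum.inl 0)) + v (Sum.inl (Sum.inl 1)), v (Sum.inl (Sum.inl 1)) + b * v (Sum.inl (Sum.inr 0)) + b * v (Sum.inl (Sum.inr 1)) + a * v (Sum.inr 0)] ![v (Sum.inl (Sum.inr 0)), v (Sum.inl (Sum.inr 0)) + v (Sum.inl (Sum.inr 1))]) ![a * v (Sum.inl (Sum.inr 0)) + a * v (Sum.inl (Sum.inr 1)) + v (Sum.inr 0) + a * v (Sum.inr 1), v (Sum.inl (Sum.inr 0)) + v (Sum.inl (Sum.inr 1)) + v (Sum.inr 1)]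
  map_add' x y := by
    funext s
    rcases s with (i | i) | i <;> fin_cases i <;> simp <;> ring
  map_smul' c x := by
    funext s
    rcases s with (i | i) | i <;> fin_cases i <;> simp <;> ring

variable (a b : F) (v : V6 F)

theorem u8_x1 : u8 a b v (Sum.inl (Sum.inl 0)) = v (Sum.inl (Sum.inl 0)) + v (Sum.inl (Sum.inl 1)) := rfl
theorem u8_x2 : u8 a b v (Sum.inl (Sum.inl 1)) = v (Sum.inl (Sum.inl 1)) + b * v (Sum.inl (Sum.inr 0)) + b * v (Sum.inl (Sum.inr 1)) + a * v (Sum.inr 0) := rfl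
theorem u8_y1 : u8 a b v (Sum.inl (Sum.inr 0)) = v (Sum.inl (Sum.inr 0)) := rfl
theorem u8_y2 : u8 a b v (Sum.inl (Sum.inr 1)) = v (Sum.inl (Sum.inr 0)) + v (Sum.inl (Sum.inr 1)) := rfl
theorem u8_z1 : u8 a b v (Sum.inr 0) = a * v (Sum.inl (Sum.inr 0)) + a * v (Sum.inl (Sum.inr 1)) + v (Sum.inr 0) + a * v (Sum.inr 1) := rfl
theorem u8_z2 : u8 a b v (Sum.inr 1) = v (Sum.inl (Sum.inr 0)) + v (Sum.inl (Sum.inr 1)) + v (Sum.inr 1) := rfl

theorem u8_p2_x1 : u8 a b (u8 a b v) (Sum.inl (Sum.inl 0)) = v (Sum.inl (Sum.inl 0)) + b * v (Sum.inl (Sum.inr 0)) + b * v (Sum.inl (Sum.inr 1)) + a * v (Sum.inr 0) := by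
  simp only [u8_x1, u8_x2, u8_y1, u8_y2, u8_z1, u8_z2]
  linear_combination (v (Sum.inl (Sum.inl 1))) * (CharTwo.two_eq_zero : (2 : F) = 0)
theorem u8_p2_x2 : u8 a b (u8 a b v) (Sum.inl (Sum.inl 1)) = v (Sum.inl (Sum.inl 1)) + (a ^ 2 + b) * v (Sum.inl (Sum.inr 0)) + a ^ 2 * v (Sum.inl (Sum.inr 1)) + a ^ 2 * v (Sum.inr 1) := by
  simp only [u8_x1, u8_x2, u8_y1, u8_y2, u8_z1, u8_z2]
  linear_combination (b * v (Sum.inl (Sum.inr 0)) + b * v (Sum.inl (Sum.inr 1)) + a * v (Sum.inr 0)) * (CharTwo.two_eq_zero : (2 : F) = 0)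
theorem u8_p2_y1 : u8 a b (u8 a b v) (Sum.inl (Sum.inr 0)) = v (Sum.inl (Sum.inr 0)) := by
  simp only [u8_x1, u8_x2, u8_y1, u8_y2, u8_z1, u8_z2]
theorem u8_p2_y2 : u8 a b (u8 a b v) (Sum.inl (Sum.inr 1)) = v (Sum.inl (Sum.inr 1)) := by
  simp only [u8_x1, u8_x2, u8_y1, u8_y2, u8_z1, u8_z2]
  linear_combination (v (Sum.inl (Sum.inr 0))) * (CharTwo.two_eq_zero : (2 : F) = 0)
theorem u8_p2_z1 : u8 a b (u8 a b v) (Sum.inr 0) = a * v (Sum.inl (Sum.inr 1)) + v (Sum.inr 0) := by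
  simp only [u8_x1, u8_x2, u8_y1, u8_y2, u8_z1, u8_z2]
  linear_combination (2 * a * v (Sum.inl (Sum.inr 0)) + a * v (Sum.inl (Sum.inr 1)) + a * v (Sum.inr 1)) * (CharTwo.two_eq_zero : (2 : F) = 0)
theorem u8_p2_z2 : u8 a b (u8 a b v) (Sum.inr 1) = v (Sum.inl (Sum.inr 0)) + v (Sum.inr 1) := by
  simp only [u8_x1, u8_x2, u8_y1, u8_y2, u8_z1, u8_z2]
  linear_combination (v (Sum.inl (Sum.inr 0)) + v (Sum.inl (Sum.inr 1))) * (CharTwo.two_eq_zero : (2 : F) = 0)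
theorem u8_p4_x1 : u8 a b (u8 a b (u8 a b (u8 a b v))) (Sum.inl (Sum.inl 0)) = v (Sum.inl (Sum.inl 0)) + a ^ 2 * v (Sum.inl (Sum.inr 1)) := by
  simp only [u8_p2_x1, u8_p2_x2, u8_p2_y1, u8_p2_y2, u8_p2_z1, u8_p2_z2]
  linear_combination (b * v (Sum.inl (Sum.inr 0)) + b * v (Sum.inl (Sum.inr 1)) + a * v (Sum.inr 0)) * (CharTwo.two_eq_zero : (2 : F) = 0)
theorem u8_p4_x2 : u8 a b (u8 a b (u8 a b (u8 a b v))) (Sum.inl (Sum.inl 1)) = v (Sum.inl (Sum.inl 1)) + a ^ 2 * v (Sum.inl (Sum.inr 0)) := by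
  simp only [u8_p2_x1, u8_p2_x2, u8_p2_y1, u8_p2_y2, u8_p2_z1, u8_p2_z2]
  linear_combination ((a ^ 2 + b) * v (Sum.inl (Sum.inr 0)) + a ^ 2 * v (Sum.inl (Sum.inr 1)) + a ^ 2 * v (Sum.inr 1)) * (CharTwo.two_eq_zero : (2 : F) = 0)
theorem u8_p4_y1 : u8 a b (u8 a b (u8 a b (u8 a b v))) (Sum.inl (Sum.inr 0)) = v (Sum.inl (Sum.inr 0)) := by
  simp only [u8_p2_x1, u8_p2_x2, u8_p2_y1, u8_p2_y2, u8_p2_z1, u8_p2_z2]
theorem u8_p4_y2 : u8 a b (u8 a b (u8 a b (u8 a b v))) (Sum.inl (Sum.inr 1)) = v (Sum.inl (Sum.inr 1)) := by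
  simp only [u8_p2_x1, u8_p2_x2, u8_p2_y1, u8_p2_y2, u8_p2_z1, u8_p2_z2]
theorem u8_p4_z1 : u8 a b (u8 a b (u8 a b (u8 a b v))) (Sum.inr 0) = v (Sum.inr 0) := by
  simp only [u8_p2_x1, u8_p2_x2, u8_p2_y1, u8_p2_y2, u8_p2_z1, u8_p2_z2]
  linear_combination (a * v (Sum.inl (Sum.inr 1))) * (CharTwo.two_eq_zero : (2 : F) = 0)
theorem u8_p4_z2 : u8 a b (u8 a b (u8 a b (u8 a b v))) (Sum.inr 1) = v (Sum.inr 1) := by
  simp only [u8_p2_x1, u8_p2_x2, u8_p2_y1, u8_p2_y2, u8_p2_z1, u8_p2_z2]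
  linear_combination (v (Sum.inl (Sum.inr 0))) * (CharTwo.two_eq_zero : (2 : F) = 0)
theorem u8_p8_x1 : u8 a b (u8 a b (u8 a b (u8 a b (u8 a b (u8 a b (u8 a b (u8 a b v))))))) (Sum.inl (Sum.inl 0)) = v (Sum.inl (Sum.inl 0)) := by
  simp only [u8_p4_x1, u8_p4_x2, u8_p4_y1, u8_p4_y2, u8_p4_z1, u8_p4_z2]
  linear_combination (a ^ 2 * v (Sum.inl (Sum.inr 1))) * (CharTwo.two_eq_zero : (2 : F) = 0)
theorem u8_p8_x2 : u8 a b (u8 a b (u8 a b (u8 a b (u8 a b (u8 a b (u8 a b (u8 a b v))))))) (Sum.inl (Sum.inl 1)) = v (Sum.inl (Sum.inl 1)) := by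
  simp only [u8_p4_x1, u8_p4_x2, u8_p4_y1, u8_p4_y2, u8_p4_z1, u8_p4_z2]
  linear_combination (a ^ 2 * v (Sum.inl (Sum.inr 0))) * (CharTwo.two_eq_zero : (2 : F) = 0)
theorem u8_p8_y1 : u8 a b (u8 a b (u8 a b (u8 a b (u8 a b (u8 a b (u8 a b (u8 a b v))))))) (Sum.inl (Sum.inr 0)) = v (Sum.inl (Sum.inr 0)) := by
  simp only [u8_p4_x1, u8_p4_x2, u8_p4_y1, u8_p4_y2, u8_p4_z1, u8_p4_z2]
theorem u8_p8_y2 : u8 a b (u8 a b (u8 a b (u8 a b (u8 a b (u8 a b (u8 a b (u8 a b v))))))) (Sum.inl (Sum.inr 1)) = v (Sum.inl (Sum.inr 1)) := by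
  simp only [u8_p4_x1, u8_p4_x2, u8_p4_y1, u8_p4_y2, u8_p4_z1, u8_p4_z2]
theorem u8_p8_z1 : u8 a b (u8 a b (u8 a b (u8 a b (u8 a b (u8 a b (u8 a b (u8 a b v))))))) (Sum.inr 0) = v (Sum.inr 0) := by
  simp only [u8_p4_x1, u8_p4_x2, u8_p4_y1, u8_p4_y2, u8_p4_z1, u8_p4_z2]
theorem u8_p8_z2 : u8 a b (u8 a b (u8 a b (u8 a b (u8 a b (u8 a b (u8 a b (u8 a b v))))))) (Sum.inr 1) = v (Sum.inr 1) := by
  simp only [u8_p4_x1, u8_p4_x2, u8_p4_y1, u8_p4_y2, u8_p4_z1, u8_p4_z2]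

theorem u8_iter8 (a b : F) (v : V6 F) : u8 a b (u8 a b (u8 a b (u8 a b (u8 a b (u8 a b (u8 a b (u8 a b v))))))) = v := by
  funext s
  rcases s with (i | i) | i <;> fin_cases i
  · exact u8_p8_x1 a b v
  · exact u8_p8_x2 a b v
  · exact u8_p8_y1 a b v
  · exact u8_p8_y2 a b v
  · exact u8_p8_z1 a b v
  · exact u8_p8_z2 a b v

theorem u8_iter4_ne {a b : F} (ha : a ≠ 0) : ∃ v : V6 F, u8 a b (u8 a b (u8 a b (u8 a b v))) ≠ v := by
  classical
  let w : V6 F := Pi.single (Sum.inl (Sum.inr 1)) 1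
  have hw1 : w (Sum.inl (Sum.inl 0)) = 0 := by simp [w]
  have hw2 : w (Sum.inl (Sum.inr 1)) = 1 := by simp [w]
  refine ⟨w, fun h => ?_⟩
  have h1 := congrFun h (Sum.inl (Sum.inl 0))
  rw [u8_p4_x1, hw1, hw2, zero_add, mul_one] at h1
  exact ha (pow_eq_zero_iff (by norm_num) |>.1 h1)

theorem u8_it8 (a b : F) : ∀ x, (u8 a b)^[2 ^ (2 + 1)] x = x := fun v => by
  rw [iter8]
  exact u8_iter8 a b v

theorem u8_it4 {a b : F} (ha : a ≠ 0) : ∃ x, (u8 a b)^[2 ^ 2] x ≠ x := by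
  obtain ⟨v, hv⟩ := u8_iter4_ne (b := b) ha
  exact ⟨v, by rw [iter4]; exact hv⟩

theorem has_u8 [Finite F] {a b : F} (ha : a ≠ 0) : Has (qMinus 2 a b) 8 := by
  obtain ⟨g, hg, ho⟩ := exists_order_of_iterate (u8 a b) 2 (u8_it8 a b) (u8_it4 ha)
  refine has_of_equiv g (fun v => ?_) (by simpa using ho)
  rw [hg, coe_qMinus]
  simp only [Cfsg.quadFormMinus, Fin.sum_univ_two, u8_x1, u8_x2, u8_y1, u8_y2, u8_z1, u8_z2]
  linear_combination (2 * a * v (Sum.inl (Sum.inr 0)) * v (Sum.inr 0) + 2 * a * v (Sum.inl (Sum.inr 1)) * v (Sum.inr 0) + a * v (Sum.inr 0) * v (Sum.inr 1) + 2 * a ^ 2 * v (Sum.inl (Sum.inr 0)) * v (Sum.inl (Sum.inr 1)) + 2 * a ^ 2 * v (Sum.inl (Sum.inr 0)) * v (Sum.inr 1) + a ^ 2 * v (Sum.inl (Sum.inr 0)) ^ 2 + 2 * a ^ 2 * v (Sum.inl (Sum.inr 1)) * v (Sum.inr 1) + a ^ 2 * v (Sum.inl (Sum.inr 1)) ^ 2 + a ^ 2 * v (Sum.inr 1) ^ 2 + 2 * b * v (Sum.inl (Sum.inr 0)) * v (Sum.inl (Sum.inr 1)) + b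 * v (Sum.inl (Sum.inr 0)) * v (Sum.inr 1) + b * v (Sum.inl (Sum.inr 0)) ^ 2 + b * v (Sum.inl (Sum.inr 1)) * v (Sum.inr 1) + b * v (Sum.inl (Sum.inr 1)) ^ 2 + v (Sum.inl (Sum.inl 1)) * v (Sum.inl (Sum.inr 0))) * (CharTwo.two_eq_zero : (2 : F) = 0)

/-- `z₁² + z₁z₂ = z₁ (z₁ + z₂)`: as a hyperbolic plane. -/
noncomputable def binPlus : (Fin 2 → F) ≃ₗ[F] (Fin 1 ⊕ Fin 1 → F) where
  toFun z := Sum.elim ![z 0] ![z 0 + z 1]
  invFun v := ![v (Sum.inl 0), v (Sum.inr 0) + v (Sum.inl 0)]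
  map_add' x y := by
    funext s
    rcases s with i | i <;> fin_cases i <;> simp <;> ring
  map_smul' c x := by
    funext s
    rcases s with i | i <;> fin_cases i <;> simp <;> ring
  left_inv z := by
    funext i
    fin_cases i
    · simp
    · have h2 : (z 0 + z 0 : F) = 0 := CharTwo.add_self_eq_zero _
      simp
      linear_combination h2
  right_inv v := by
    funext s
    rcases s with i | i <;> fin_cases i
    · simp
    · have h2 : (v (Sum.inl 0) + v (Sum.inl 0) : F) = 0 := CharTwo.add_self_eq_zero _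
      simp
      linear_combination h2

theorem binPlus_isom (z : Fin 2 → F) : qPlus 1 F (binPlus z) = qBin 1 0 z := by
  rw [qPlus_apply, qBin_apply, Fin.sum_univ_one]
  show z 0 * (z 0 + z 1) = _
  ring

theorem has_u8_plus [Finite F] : Has (qPlus 3 F) 8 := by
  have h : Has (qMinus 2 (1 : F) (0 : F)) 8 := has_u8 one_ne_zero
  let e : V6 F ≃ₗ[F] (Fin (2 + 1) ⊕ Fin (2 + 1) → F) :=
    (minusEquiv 2 F).trans ((LinearEquiv.prodCongr (LinearEquiv.refl F _) (binPlus (F := F))).trans (plusSum 2 1))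
  refine h.congr e (fun x => ?_)
  show qPlus (2 + 1) F (plusSum 2 1 _) = _
  rw [plusSum_isom, ← qMinus_apply, sumHyp_eq]
  congr 1
  exact binPlus_isom (F := F) ((minusEquiv 2 F) x).2

end unip8

end Cfsg.Agent.Lib.SpEight.Models
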