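import Mathlib
import Cfsg.Agent.Lib.SpSpec.Recip
import Cfsg.Agent.Lib.SLn.Basic

set_option autoImplicit false
set_option linter.unusedSectionVars false
set_option linter.unusedVariables false

/-!
Every monic self-reciprocal polynomial of degree eight over a finite field of characteristic two
divides `X ^ T - 1` for one of twelve exponents `T`.
-/

namespace Cfsg.Agent.Lib.SpEight.Poly

open Polynomial
open Cfsg.Agent.Lib.SpSpec.Recip

/-- Data collected while peeling off reciprocal factors. -/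
inductive Parts (q : ℕ) : ℕ → ℕ → ℕ → Prop
  | nil : Parts q 0 1 0
  | plus {w m A : ℕ} (d e : ℕ) (hd : 1 ≤ d) (he : 1 ≤ e) (h : Parts q w m A) :
      Parts q (w + d * e) (Nat.lcm (q ^ d + 1) m) (max e A)
  | minus {w m A : ℕ} (d e : ℕ) (hd : 1 ≤ d) (he : 1 ≤ e) (h : Parts q w m A) :
      Parts q (w + d * e) (Nat.lcm (q ^ d - 1) m) (max e A)

theorem Parts.inv {q w m A : ℕ} (h : Parts q w m A) : (w = 0 ∧ m = 1 ∧ A = 0) ∨
    ∃ d e w' m' A', 1 ≤ d ∧ 1 ≤ e ∧ w = w' + d * e ∧ Parts q w' m' A' ∧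
      (m = Nat.lcm (q ^ d + 1) m' ∨ m = Nat.lcm (q ^ d - 1) m') ∧ A = max e A' := by
  cases h with
  | nil => exact Or.inl ⟨rfl, rfl, rfl⟩
  | plus d e hd he h => exact Or.inr ⟨d, e, _, _, _, hd, he, rfl, h, Or.inl rfl, rfl⟩
  | minus d e hd he h => exact Or.inr ⟨d, e, _, _, _, hd, he, rfl, h, Or.inr rfl, rfl⟩

theorem parts_0 {q m A : ℕ} (h : Parts q 0 m A) : m = 1 ∧ A = 0 := by
  rcases Parts.inv h with ⟨-, h1, h2⟩ | ⟨d, e, w', m', A', hd, he, hw, hP, hm, hA⟩
  · exact ⟨h1, h2⟩
  · exfalso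
    have : 1 ≤ d * e := Nat.mul_pos hd he
    omega

theorem facts {q : ℕ} (hq : 2 ≤ q) :
    q + 1 ∣ q ^ 2 - 1 ∧ q - 1 ∣ q ^ 2 - 1 ∧ q + 1 ∣ q ^ 3 + 1 ∧ q - 1 ∣ q ^ 3 - 1 ∧
    q + 1 ∣ (q ^ 2 + 1) * (q + 1) ∧ q - 1 ∣ (q ^ 2 + 1) * (q - 1) ∧
    q ^ 2 + 1 ∣ (q ^ 2 + 1) * (q + 1) ∧ q ^ 2 + 1 ∣ (q ^ 2 + 1) * (q - 1) ∧
    q ^ 2 + 1 ∣ q ^ 4 - 1 ∧ q ^ 2 - 1 ∣ q ^ 4 - 1 ∧
    (q ^ 2 + 1) * (q + 1) ∣ q ^ 4 - 1 ∧ (q ^ 2 + 1) * (q - 1) ∣ q ^ 4 - 1 ∧
    q ^ 3 + 1 ∣ (q ^ 3 + 1) * (q - 1) ∧ q - 1 ∣ (q ^ 3 + 1) * (q - 1) ∧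
    q ^ 3 - 1 ∣ (q ^ 3 - 1) * (q + 1) ∧ q + 1 ∣ (q ^ 3 - 1) * (q + 1) ∧
    q + 1 ∣ (q ^ 3 + 1) * (q - 1) ∧ q - 1 ∣ (q ^ 3 - 1) * (q + 1) ∧
    q + 1 ∣ q ^ 4 - 1 ∧ q - 1 ∣ q ^ 4 - 1 := by
  obtain ⟨p, rfl⟩ : ∃ p, q = p + 1 := ⟨q - 1, by omega⟩
  have e2 : (p + 1) ^ 2 - 1 = (p + 1 + 1) * p := Nat.sub_eq_of_eq_add (by ring)
  have e3p : (p + 1) ^ 3 + 1 = (p + 1 + 1) * (p ^ 2 + p + 1) := by ring
  have e3m : (p + 1) ^ 3 - 1 = p * (p ^ 2 + 3 * p + 3) := Nat.sub_eq_of_eq_add (by ring)
  have e4 : (p + 1) ^ 4 - 1 = ((p + 1) ^ 2 + 1) * ((p + 1 + 1) * p) := Nat.sub_eq_of_eq_add (by ring)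
  have e1 : p + 1 - 1 = p := by omega
  simp only [e1, e2, e3p, e3m, e4]
  refine ⟨⟨p, rfl⟩, ⟨p + 1 + 1, by ring⟩, ⟨_, rfl⟩, ⟨_, rfl⟩,
    ⟨_, by rw [mul_comm]⟩, ⟨_, by rw [mul_comm]⟩,
    ⟨_, rfl⟩, ⟨_, rfl⟩, ⟨_, rfl⟩, ⟨_, by rw [mul_comm]⟩,
    ⟨p, by ring⟩, ⟨p + 1 + 1, by ring⟩, ⟨_, rfl⟩, ⟨_, by rw [mul_comm]⟩, ⟨_, rfl⟩,
    ⟨_, by rw [mul_comm]⟩, ⟨(p ^ 2 + p + 1) * p, by ring⟩, ⟨(p ^ 2 + 3 * p + 3) * (p + 1 + 1), by ring⟩, ?_, ?_⟩
  · exact ⟨((p + 1) ^ 2 + 1) * p, by ring⟩
  · exact ⟨((p + 1) ^ 2 + 1) * (p + 1 + 1), by ring⟩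

def P1 (q m A : ℕ) : Prop :=
  (A ≤ 1 ∧ m ∣ q + 1) ∨ (A ≤ 1 ∧ m ∣ q - 1)

def P2 (q m A : ℕ) : Prop :=
  (A ≤ 1 ∧ m ∣ q ^ 2 + 1) ∨ (A ≤ 1 ∧ m ∣ q ^ 2 - 1) ∨ (A ≤ 2 ∧ m ∣ q + 1) ∨ (A ≤ 2 ∧ m ∣ q - 1)

def P3 (q m A : ℕ) : Prop :=
  (A ≤ 1 ∧ m ∣ q ^ 3 + 1) ∨ (A ≤ 1 ∧ m ∣ q ^ 3 - 1) ∨ (A ≤ 1 ∧ m ∣ (q ^ 2 + 1) * (q + 1)) ∨ (A ≤ 1 ∧ m ∣ (q ^ 2 + 1) * (q - 1)) ∨ (A ≤ 2 ∧ m ∣ q ^ 2 - 1) ∨ (A ≤ 3 ∧ m ∣ q + 1) ∨ (A ≤ 3 ∧ m ∣ q - 1)

def P4 (q m A : ℕ) : Prop :=
  (A ≤ 1 ∧ m ∣ q ^ 4 + 1) ∨ (A ≤ 1 ∧ m ∣ q ^ 4 - 1) ∨ (A ≤ 1 ∧ m ∣ (q ^ 3 + 1) * (q - 1)) ∨ (A ≤ 1 ∧ m ∣ (q ^ 3 - 1) * (q + 1)) ∨ (A ≤ 2 ∧ m ∣ (q ^ 2 + 1) * (q + 1)) ∨ (A ≤ 2 ∧ m ∣ (q ^ 2 + 1) * (q - 1)) ∨ (A ≤ 4 ∧ m ∣ q ^ 2 - 1)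

theorem parts_1 {q m A : ℕ} (hq : 2 ≤ q) (h : Parts q 1 m A) : P1 q m A := by
  obtain ⟨f1, f2, f3, f4, f5, f6, f7, f8, f9, f10, f11, f12, f13, f14, f15, f16, f17, f18, f19, f20⟩ := facts hq
  rcases Parts.inv h with ⟨h0, -, -⟩ | ⟨d, e, w', m', A', hd, he, hw, hP, hm, hA⟩
  · omega
  have hd' : d ≤ 1 := by nlinarith
  have he' : e ≤ 1 := by nlinarith
  have hcases : (d = 1 ∧ e = 1 ∧ w' = 0) := by
    interval_cases d <;> interval_cases e <;> omega
  rcases hcases with ⟨rfl, rfl, rfl⟩
  · -- d=1 e=1 w=0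
    obtain ⟨rfl, rfl⟩ := parts_0 hP
    have hx : 1 ∣ 1 := dvd_rfl
    simp only [pow_one] at hm;
    rcases hm with rfl | rfl
    · first
      | (exact Or.inl ⟨by omega, Nat.lcm_dvd (by first | assumption | exact dvd_rfl | exact one_dvd _) (hx.trans (by first | assumption | exact dvd_rfl | exact one_dvd _))⟩)
      | (exact Or.inr (⟨by omega, Nat.lcm_dvd (by first | assumption | exact dvd_rfl | exact one_dvd _) (hx.trans (by first | assumption | exact dvd_rfl | exact one_dvd _))⟩))
    · first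
      | (exact Or.inl ⟨by omega, Nat.lcm_dvd (by first | assumption | exact dvd_rfl | exact one_dvd _) (hx.trans (by first | assumption | exact dvd_rfl | exact one_dvd _))⟩)
      | (exact Or.inr (⟨by omega, Nat.lcm_dvd (by first | assumption | exact dvd_rfl | exact one_dvd _) (hx.trans (by first | assumption | exact dvd_rfl | exact one_dvd _))⟩))

theorem parts_2 {q m A : ℕ} (hq : 2 ≤ q) (h : Parts q 2 m A) : P2 q m A := by
  obtain ⟨f1, f2, f3, f4, f5, f6, f7, f8, f9, f10, f11, f12, f13, f14, f15, f16, f17, f18, f19, f20⟩ := facts hq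
  rcases Parts.inv h with ⟨h0, -, -⟩ | ⟨d, e, w', m', A', hd, he, hw, hP, hm, hA⟩
  · omega
  have hd' : d ≤ 2 := by nlinarith
  have he' : e ≤ 2 := by nlinarith
  have hcases : (d = 2 ∧ e = 1 ∧ w' = 0) ∨ (d = 1 ∧ e = 2 ∧ w' = 0) ∨ (d = 1 ∧ e = 1 ∧ w' = 1) := by
    interval_cases d <;> interval_cases e <;> omega
  rcases hcases with ⟨rfl, rfl, rfl⟩ | ⟨rfl, rfl, rfl⟩ | ⟨rfl, rfl, rfl⟩
  · -- d=2 e=1 w=0
    obtain ⟨rfl, rfl⟩ := parts_0 hP
    have hx : 1 ∣ 1 := dvd_rfl
    
    rcases hm with rfl | rfl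
    · first
      | (exact Or.inl ⟨by omega, Nat.lcm_dvd (by first | assumption | exact dvd_rfl | exact one_dvd _) (hx.trans (by first | assumption | exact dvd_rfl | exact one_dvd _))⟩)
      | (exact Or.inr (Or.inl ⟨by omega, Nat.lcm_dvd (by first | assumption | exact dvd_rfl | exact one_dvd _) (hx.trans (by first | assumption | exact dvd_rfl | exact one_dvd _))⟩))
      | (exact Or.inr (Or.inr (Or.inl ⟨by omega, Nat.lcm_dvd (by first | assumption | exact dvd_rfl | exact one_dvd _) (hx.trans (by first | assumption | exact dvd_rfl | exact one_dvd _))⟩)))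
      | (exact Or.inr (Or.inr (Or.inr (⟨by omega, Nat.lcm_dvd (by first | assumption | exact dvd_rfl | exact one_dvd _) (hx.trans (by first | assumption | exact dvd_rfl | exact one_dvd _))⟩))))
    · first
      | (exact Or.inl ⟨by omega, Nat.lcm_dvd (by first | assumption | exact dvd_rfl | exact one_dvd _) (hx.trans (by first | assumption | exact dvd_rfl | exact one_dvd _))⟩)
      | (exact Or.inr (Or.inl ⟨by omega, Nat.lcm_dvd (by first | assumption | exact dvd_rfl | exact one_dvd _) (hx.trans (by first | assumption | exact dvd_rfl | exact one_dvd _))⟩))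
      | (exact Or.inr (Or.inr (Or.inl ⟨by omega, Nat.lcm_dvd (by first | assumption | exact dvd_rfl | exact one_dvd _) (hx.trans (by first | assumption | exact dvd_rfl | exact one_dvd _))⟩)))
      | (exact Or.inr (Or.inr (Or.inr (⟨by omega, Nat.lcm_dvd (by first | assumption | exact dvd_rfl | exact one_dvd _) (hx.trans (by first | assumption | exact dvd_rfl | exact one_dvd _))⟩))))
  · -- d=1 e=2 w=0
    obtain ⟨rfl, rfl⟩ := parts_0 hP
    have hx : 1 ∣ 1 := dvd_rfl
    simp only [pow_one] at hm;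
    rcases hm with rfl | rfl
    · first
      | (exact Or.inl ⟨by omega, Nat.lcm_dvd (by first | assumption | exact dvd_rfl | exact one_dvd _) (hx.trans (by first | assumption | exact dvd_rfl | exact one_dvd _))⟩)
      | (exact Or.inr (Or.inl ⟨by omega, Nat.lcm_dvd (by first | assumption | exact dvd_rfl | exact one_dvd _) (hx.trans (by first | assumption | exact dvd_rfl | exact one_dvd _))⟩))
      | (exact Or.inr (Or.inr (Or.inl ⟨by omega, Nat.lcm_dvd (by first | assumption | exact dvd_rfl | exact one_dvd _) (hx.trans (by first | assumption | exact dvd_rfl | exact one_dvd _))⟩)))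
      | (exact Or.inr (Or.inr (Or.inr (⟨by omega, Nat.lcm_dvd (by first | assumption | exact dvd_rfl | exact one_dvd _) (hx.trans (by first | assumption | exact dvd_rfl | exact one_dvd _))⟩))))
    · first
      | (exact Or.inl ⟨by omega, Nat.lcm_dvd (by first | assumption | exact dvd_rfl | exact one_dvd _) (hx.trans (by first | assumption | exact dvd_rfl | exact one_dvd _))⟩)
      | (exact Or.inr (Or.inl ⟨by omega, Nat.lcm_dvd (by first | assumption | exact dvd_rfl | exact one_dvd _) (hx.trans (by first | assumption | exact dvd_rfl | exact one_dvd _))⟩))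
      | (exact Or.inr (Or.inr (Or.inl ⟨by omega, Nat.lcm_dvd (by first | assumption | exact dvd_rfl | exact one_dvd _) (hx.trans (by first | assumption | exact dvd_rfl | exact one_dvd _))⟩)))
      | (exact Or.inr (Or.inr (Or.inr (⟨by omega, Nat.lcm_dvd (by first | assumption | exact dvd_rfl | exact one_dvd _) (hx.trans (by first | assumption | exact dvd_rfl | exact one_dvd _))⟩))))
  · -- d=1 e=1 w=1
    have hP' := parts_1 hq hP
    unfold P1 at hP'
    simp only [pow_one] at hm;
    rcases hm with rfl | rfl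
    · rcases hP' with ⟨h1, hx⟩ | ⟨h1, hx⟩
      all_goals first
      | (exact Or.inl ⟨by omega, Nat.lcm_dvd (by first | assumption | exact dvd_rfl | exact one_dvd _) (hx.trans (by first | assumption | exact dvd_rfl | exact one_dvd _))⟩)
      | (exact Or.inr (Or.inl ⟨by omega, Nat.lcm_dvd (by first | assumption | exact dvd_rfl | exact one_dvd _) (hx.trans (by first | assumption | exact dvd_rfl | exact one_dvd _))⟩))
      | (exact Or.inr (Or.inr (Or.inl ⟨by omega, Nat.lcm_dvd (by first | assumption | exact dvd_rfl | exact one_dvd _) (hx.trans (by first | assumption | exact dvd_rfl | exact one_dvd _))⟩)))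
      | (exact Or.inr (Or.inr (Or.inr (⟨by omega, Nat.lcm_dvd (by first | assumption | exact dvd_rfl | exact one_dvd _) (hx.trans (by first | assumption | exact dvd_rfl | exact one_dvd _))⟩))))
    · rcases hP' with ⟨h1, hx⟩ | ⟨h1, hx⟩
      all_goals first
      | (exact Or.inl ⟨by omega, Nat.lcm_dvd (by first | assumption | exact dvd_rfl | exact one_dvd _) (hx.trans (by first | assumption | exact dvd_rfl | exact one_dvd _))⟩)
      | (exact Or.inr (Or.inl ⟨by omega, Nat.lcm_dvd (by first | assumption | exact dvd_rfl | exact one_dvd _) (hx.trans (by first | assumption | exact dvd_rfl | exact one_dvd _))⟩))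
      | (exact Or.inr (Or.inr (Or.inl ⟨by omega, Nat.lcm_dvd (by first | assumption | exact dvd_rfl | exact one_dvd _) (hx.trans (by first | assumption | exact dvd_rfl | exact one_dvd _))⟩)))
      | (exact Or.inr (Or.inr (Or.inr (⟨by omega, Nat.lcm_dvd (by first | assumption | exact dvd_rfl | exact one_dvd _) (hx.trans (by first | assumption | exact dvd_rfl | exact one_dvd _))⟩))))

theorem parts_3 {q m A : ℕ} (hq : 2 ≤ q) (h : Parts q 3 m A) : P3 q m A := by
  obtain ⟨f1, f2, f3, f4, f5, f6, f7, f8, f9, f10, f11, f12, f13, f14, f15, f16, f17, f18, f19, f20⟩ := facts hq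
  rcases Parts.inv h with ⟨h0, -, -⟩ | ⟨d, e, w', m', A', hd, he, hw, hP, hm, hA⟩
  · omega
  have hd' : d ≤ 3 := by nlinarith
  have he' : e ≤ 3 := by nlinarith
  have hcases : (d = 3 ∧ e = 1 ∧ w' = 0) ∨ (d = 1 ∧ e = 3 ∧ w' = 0) ∨ (d = 2 ∧ e = 1 ∧ w' = 1) ∨ (d = 1 ∧ e = 2 ∧ w' = 1) ∨ (d = 1 ∧ e = 1 ∧ w' = 2) := by
    interval_cases d <;> interval_cases e <;> omega
  rcases hcases with ⟨rfl, rfl, rfl⟩ | ⟨rfl, rfl, rfl⟩ | ⟨rfl, rfl, rfl⟩ | ⟨rfl, rfl, rfl⟩ | ⟨rfl, rfl, rfl⟩
  · -- d=3 e=1 w=0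
    obtain ⟨rfl, rfl⟩ := parts_0 hP
    have hx : 1 ∣ 1 := dvd_rfl
    
    rcases hm with rfl | rfl
    · first
      | (exact Or.inl ⟨by omega, Nat.lcm_dvd (by first | assumption | exact dvd_rfl | exact one_dvd _) (hx.trans (by first | assumption | exact dvd_rfl | exact one_dvd _))⟩)
      | (exact Or.inr (Or.inl ⟨by omega, Nat.lcm_dvd (by first | assumption | exact dvd_rfl | exact one_dvd _) (hx.trans (by first | assumption | exact dvd_rfl | exact one_dvd _))⟩))
      | (exact Or.inr (Or.inr (Or.inl ⟨by omega, Nat.lcm_dvd (by first | assumption | exact dvd_rfl | exact one_dvd _) (hx.trans (by first | assumption | exact dvd_rfl | exact one_dvd _))⟩)))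
      | (exact Or.inr (Or.inr (Or.inr (Or.inl ⟨by omega, Nat.lcm_dvd (by first | assumption | exact dvd_rfl | exact one_dvd _) (hx.trans (by first | assumption | exact dvd_rfl | exact one_dvd _))⟩))))
      | (exact Or.inr (Or.inr (Or.inr (Or.inr (Or.inl ⟨by omega, Nat.lcm_dvd (by first | assumption | exact dvd_rfl | exact one_dvd _) (hx.trans (by first | assumption | exact dvd_rfl | exact one_dvd _))⟩)))))
      | (exact Or.inr (Or.inr (Or.inr (Or.inr (Or.inr (Or.inl ⟨by omega, Nat.lcm_dvd (by first | assumption | exact dvd_rfl | exact one_dvd _) (hx.trans (by first | assumption | exact dvd_rfl | exact one_dvd _))⟩))))))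
      | (exact Or.inr (Or.inr (Or.inr (Or.inr (Or.inr (Or.inr (⟨by omega, Nat.lcm_dvd (by first | assumption | exact dvd_rfl | exact one_dvd _) (hx.trans (by first | assumption | exact dvd_rfl | exact one_dvd _))⟩)))))))
    · first
      | (exact Or.inl ⟨by omega, Nat.lcm_dvd (by first | assumption | exact dvd_rfl | exact one_dvd _) (hx.trans (by first | assumption | exact dvd_rfl | exact one_dvd _))⟩)
      | (exact Or.inr (Or.inl ⟨by omega, Nat.lcm_dvd (by first | assumption | exact dvd_rfl | exact one_dvd _) (hx.trans (by first | assumption | exact dvd_rfl | exact one_dvd _))⟩))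
      | (exact Or.inr (Or.inr (Or.inl ⟨by omega, Nat.lcm_dvd (by first | assumption | exact dvd_rfl | exact one_dvd _) (hx.trans (by first | assumption | exact dvd_rfl | exact one_dvd _))⟩)))
      | (exact Or.inr (Or.inr (Or.inr (Or.inl ⟨by omega, Nat.lcm_dvd (by first | assumption | exact dvd_rfl | exact one_dvd _) (hx.trans (by first | assumption | exact dvd_rfl | exact one_dvd _))⟩))))
      | (exact Or.inr (Or.inr (Or.inr (Or.inr (Or.inl ⟨by omega, Nat.lcm_dvd (by first | assumption | exact dvd_rfl | exact one_dvd _) (hx.trans (by first | assumption | exact dvd_rfl | exact one_dvd _))⟩)))))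
      | (exact Or.inr (Or.inr (Or.inr (Or.inr (Or.inr (Or.inl ⟨by omega, Nat.lcm_dvd (by first | assumption | exact dvd_rfl | exact one_dvd _) (hx.trans (by first | assumption | exact dvd_rfl | exact one_dvd _))⟩))))))
      | (exact Or.inr (Or.inr (Or.inr (Or.inr (Or.inr (Or.inr (⟨by omega, Nat.lcm_dvd (by first | assumption | exact dvd_rfl | exact one_dvd _) (hx.trans (by first | assumption | exact dvd_rfl | exact one_dvd _))⟩)))))))
  · -- d=1 e=3 w=0
    obtain ⟨rfl, rfl⟩ := parts_0 hP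
    have hx : 1 ∣ 1 := dvd_rfl
    simp only [pow_one] at hm;
    rcases hm with rfl | rfl
    · first
      | (exact Or.inl ⟨by omega, Nat.lcm_dvd (by first | assumption | exact dvd_rfl | exact one_dvd _) (hx.trans (by first | assumption | exact dvd_rfl | exact one_dvd _))⟩)
      | (exact Or.inr (Or.inl ⟨by omega, Nat.lcm_dvd (by first | assumption | exact dvd_rfl | exact one_dvd _) (hx.trans (by first | assumption | exact dvd_rfl | exact one_dvd _))⟩))
      | (exact Or.inr (Or.inr (Or.inl ⟨by omega, Nat.lcm_dvd (by first | assumption | exact dvd_rfl | exact one_dvd _) (hx.trans (by first | assumption | exact dvd_rfl | exact one_dvd _))⟩)))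
      | (exact Or.inr (Or.inr (Or.inr (Or.inl ⟨by omega, Nat.lcm_dvd (by first | assumption | exact dvd_rfl | exact one_dvd _) (hx.trans (by first | assumption | exact dvd_rfl | exact one_dvd _))⟩))))
      | (exact Or.inr (Or.inr (Or.inr (Or.inr (Or.inl ⟨by omega, Nat.lcm_dvd (by first | assumption | exact dvd_rfl | exact one_dvd _) (hx.trans (by first | assumption | exact dvd_rfl | exact one_dvd _))⟩)))))
      | (exact Or.inr (Or.inr (Or.inr (Or.inr (Or.inr (Or.inl ⟨by omega, Nat.lcm_dvd (by first | assumption | exact dvd_rfl | exact one_dvd _) (hx.trans (by first | assumption | exact dvd_rfl | exact one_dvd _))⟩))))))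
      | (exact Or.inr (Or.inr (Or.inr (Or.inr (Or.inr (Or.inr (⟨by omega, Nat.lcm_dvd (by first | assumption | exact dvd_rfl | exact one_dvd _) (hx.trans (by first | assumption | exact dvd_rfl | exact one_dvd _))⟩)))))))
    · first
      | (exact Or.inl ⟨by omega, Nat.lcm_dvd (by first | assumption | exact dvd_rfl | exact one_dvd _) (hx.trans (by first | assumption | exact dvd_rfl | exact one_dvd _))⟩)
      | (exact Or.inr (Or.inl ⟨by omega, Nat.lcm_dvd (by first | assumption | exact dvd_rfl | exact one_dvd _) (hx.trans (by first | assumption | exact dvd_rfl | exact one_dvd _))⟩))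
      | (exact Or.inr (Or.inr (Or.inl ⟨by omega, Nat.lcm_dvd (by first | assumption | exact dvd_rfl | exact one_dvd _) (hx.trans (by first | assumption | exact dvd_rfl | exact one_dvd _))⟩)))
      | (exact Or.inr (Or.inr (Or.inr (Or.inl ⟨by omega, Nat.lcm_dvd (by first | assumption | exact dvd_rfl | exact one_dvd _) (hx.trans (by first | assumption | exact dvd_rfl | exact one_dvd _))⟩))))
      | (exact Or.inr (Or.inr (Or.inr (Or.inr (Or.inl ⟨by omega, Nat.lcm_dvd (by first | assumption | exact dvd_rfl | exact one_dvd _) (hx.trans (by first | assumption | exact dvd_rfl | exact one_dvd _))⟩)))))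
      | (exact Or.inr (Or.inr (Or.inr (Or.inr (Or.inr (Or.inl ⟨by omega, Nat.lcm_dvd (by first | assumption | exact dvd_rfl | exact one_dvd _) (hx.trans (by first | assumption | exact dvd_rfl | exact one_dvd _))⟩))))))
      | (exact Or.inr (Or.inr (Or.inr (Or.inr (Or.inr (Or.inr (⟨by omega, Nat.lcm_dvd (by first | assumption | exact dvd_rfl | exact one_dvd _) (hx.trans (by first | assumption | exact dvd_rfl | exact one_dvd _))⟩)))))))
  · -- d=2 e=1 w=1
    have hP' := parts_1 hq hP
    unfold P1 at hP'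
    
    rcases hm with rfl | rfl
    · rcases hP' with ⟨h1, hx⟩ | ⟨h1, hx⟩
      all_goals first
      | (exact Or.inl ⟨by omega, Nat.lcm_dvd (by first | assumption | exact dvd_rfl | exact one_dvd _) (hx.trans (by first | assumption | exact dvd_rfl | exact one_dvd _))⟩)
      | (exact Or.inr (Or.inl ⟨by omega, Nat.lcm_dvd (by first | assumption | exact dvd_rfl | exact one_dvd _) (hx.trans (by first | assumption | exact dvd_rfl | exact one_dvd _))⟩))
      | (exact Or.inr (Or.inr (Or.inl ⟨by omega, Nat.lcm_dvd (by first | assumption | exact dvd_rfl | exact one_dvd _) (hx.trans (by first | assumption | exact dvd_rfl | exact one_dvd _))⟩)))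
      | (exact Or.inr (Or.inr (Or.inr (Or.inl ⟨by omega, Nat.lcm_dvd (by first | assumption | exact dvd_rfl | exact one_dvd _) (hx.trans (by first | assumption | exact dvd_rfl | exact one_dvd _))⟩))))
      | (exact Or.inr (Or.inr (Or.inr (Or.inr (Or.inl ⟨by omega, Nat.lcm_dvd (by first | assumption | exact dvd_rfl | exact one_dvd _) (hx.trans (by first | assumption | exact dvd_rfl | exact one_dvd _))⟩)))))
      | (exact Or.inr (Or.inr (Or.inr (Or.inr (Or.inr (Or.inl ⟨by omega, Nat.lcm_dvd (by first | assumption | exact dvd_rfl | exact one_dvd _) (hx.trans (by first | assumption | exact dvd_rfl | exact one_dvd _))⟩))))))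
      | (exact Or.inr (Or.inr (Or.inr (Or.inr (Or.inr (Or.inr (⟨by omega, Nat.lcm_dvd (by first | assumption | exact dvd_rfl | exact one_dvd _) (hx.trans (by first | assumption | exact dvd_rfl | exact one_dvd _))⟩)))))))
    · rcases hP' with ⟨h1, hx⟩ | ⟨h1, hx⟩
      all_goals first
      | (exact Or.inl ⟨by omega, Nat.lcm_dvd (by first | assumption | exact dvd_rfl | exact one_dvd _) (hx.trans (by first | assumption | exact dvd_rfl | exact one_dvd _))⟩)
      | (exact Or.inr (Or.inl ⟨by omega, Nat.lcm_dvd (by first | assumption | exact dvd_rfl | exact one_dvd _) (hx.trans (by first | assumption | exact dvd_rfl | exact one_dvd _))⟩))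
      | (exact Or.inr (Or.inr (Or.inl ⟨by omega, Nat.lcm_dvd (by first | assumption | exact dvd_rfl | exact one_dvd _) (hx.trans (by first | assumption | exact dvd_rfl | exact one_dvd _))⟩)))
      | (exact Or.inr (Or.inr (Or.inr (Or.inl ⟨by omega, Nat.lcm_dvd (by first | assumption | exact dvd_rfl | exact one_dvd _) (hx.trans (by first | assumption | exact dvd_rfl | exact one_dvd _))⟩))))
      | (exact Or.inr (Or.inr (Or.inr (Or.inr (Or.inl ⟨by omega, Nat.lcm_dvd (by first | assumption | exact dvd_rfl | exact one_dvd _) (hx.trans (by first | assumption | exact dvd_rfl | exact one_dvd _))⟩)))))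
      | (exact Or.inr (Or.inr (Or.inr (Or.inr (Or.inr (Or.inl ⟨by omega, Nat.lcm_dvd (by first | assumption | exact dvd_rfl | exact one_dvd _) (hx.trans (by first | assumption | exact dvd_rfl | exact one_dvd _))⟩))))))
      | (exact Or.inr (Or.inr (Or.inr (Or.inr (Or.inr (Or.inr (⟨by omega, Nat.lcm_dvd (by first | assumption | exact dvd_rfl | exact one_dvd _) (hx.trans (by first | assumption | exact dvd_rfl | exact one_dvd _))⟩)))))))
  · -- d=1 e=2 w=1
    have hP' := parts_1 hq hP
    unfold P1 at hP'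
    simp only [pow_one] at hm;
    rcases hm with rfl | rfl
    · rcases hP' with ⟨h1, hx⟩ | ⟨h1, hx⟩
      all_goals first
      | (exact Or.inl ⟨by omega, Nat.lcm_dvd (by first | assumption | exact dvd_rfl | exact one_dvd _) (hx.trans (by first | assumption | exact dvd_rfl | exact one_dvd _))⟩)
      | (exact Or.inr (Or.inl ⟨by omega, Nat.lcm_dvd (by first | assumption | exact dvd_rfl | exact one_dvd _) (hx.trans (by first | assumption | exact dvd_rfl | exact one_dvd _))⟩))
      | (exact Or.inr (Or.inr (Or.inl ⟨by omega, Nat.lcm_dvd (by first | assumption | exact dvd_rfl | exact one_dvd _) (hx.trans (by first | assumption | exact dvd_rfl | exact one_dvd _))⟩)))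
      | (exact Or.inr (Or.inr (Or.inr (Or.inl ⟨by omega, Nat.lcm_dvd (by first | assumption | exact dvd_rfl | exact one_dvd _) (hx.trans (by first | assumption | exact dvd_rfl | exact one_dvd _))⟩))))
      | (exact Or.inr (Or.inr (Or.inr (Or.inr (Or.inl ⟨by omega, Nat.lcm_dvd (by first | assumption | exact dvd_rfl | exact one_dvd _) (hx.trans (by first | assumption | exact dvd_rfl | exact one_dvd _))⟩)))))
      | (exact Or.inr (Or.inr (Or.inr (Or.inr (Or.inr (Or.inl ⟨by omega, Nat.lcm_dvd (by first | assumption | exact dvd_rfl | exact one_dvd _) (hx.trans (by first | assumption | exact dvd_rfl | exact one_dvd _))⟩))))))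
      | (exact Or.inr (Or.inr (Or.inr (Or.inr (Or.inr (Or.inr (⟨by omega, Nat.lcm_dvd (by first | assumption | exact dvd_rfl | exact one_dvd _) (hx.trans (by first | assumption | exact dvd_rfl | exact one_dvd _))⟩)))))))
    · rcases hP' with ⟨h1, hx⟩ | ⟨h1, hx⟩
      all_goals first
      | (exact Or.inl ⟨by omega, Nat.lcm_dvd (by first | assumption | exact dvd_rfl | exact one_dvd _) (hx.trans (by first | assumption | exact dvd_rfl | exact one_dvd _))⟩)
      | (exact Or.inr (Or.inl ⟨by omega, Nat.lcm_dvd (by first | assumption | exact dvd_rfl | exact one_dvd _) (hx.trans (by first | assumption | exact dvd_rfl | exact one_dvd _))⟩))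
      | (exact Or.inr (Or.inr (Or.inl ⟨by omega, Nat.lcm_dvd (by first | assumption | exact dvd_rfl | exact one_dvd _) (hx.trans (by first | assumption | exact dvd_rfl | exact one_dvd _))⟩)))
      | (exact Or.inr (Or.inr (Or.inr (Or.inl ⟨by omega, Nat.lcm_dvd (by first | assumption | exact dvd_rfl | exact one_dvd _) (hx.trans (by first | assumption | exact dvd_rfl | exact one_dvd _))⟩))))
      | (exact Or.inr (Or.inr (Or.inr (Or.inr (Or.inl ⟨by omega, Nat.lcm_dvd (by first | assumption | exact dvd_rfl | exact one_dvd _) (hx.trans (by first | assumption | exact dvd_rfl | exact one_dvd _))⟩)))))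
      | (exact Or.inr (Or.inr (Or.inr (Or.inr (Or.inr (Or.inl ⟨by omega, Nat.lcm_dvd (by first | assumption | exact dvd_rfl | exact one_dvd _) (hx.trans (by first | assumption | exact dvd_rfl | exact one_dvd _))⟩))))))
      | (exact Or.inr (Or.inr (Or.inr (Or.inr (Or.inr (Or.inr (⟨by omega, Nat.lcm_dvd (by first | assumption | exact dvd_rfl | exact one_dvd _) (hx.trans (by first | assumption | exact dvd_rfl | exact one_dvd _))⟩)))))))
  · -- d=1 e=1 w=2
    have hP' := parts_2 hq hP
    unfold P2 at hP'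
    simp only [pow_one] at hm;
    rcases hm with rfl | rfl
    · rcases hP' with ⟨h1, hx⟩ | ⟨h1, hx⟩ | ⟨h1, hx⟩ | ⟨h1, hx⟩
      all_goals first
      | (exact Or.inl ⟨by omega, Nat.lcm_dvd (by first | assumption | exact dvd_rfl | exact one_dvd _) (hx.trans (by first | assumption | exact dvd_rfl | exact one_dvd _))⟩)
      | (exact Or.inr (Or.inl ⟨by omega, Nat.lcm_dvd (by first | assumption | exact dvd_rfl | exact one_dvd _) (hx.trans (by first | assumption | exact dvd_rfl | exact one_dvd _))⟩))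
      | (exact Or.inr (Or.inr (Or.inl ⟨by omega, Nat.lcm_dvd (by first | assumption | exact dvd_rfl | exact one_dvd _) (hx.trans (by first | assumption | exact dvd_rfl | exact one_dvd _))⟩)))
      | (exact Or.inr (Or.inr (Or.inr (Or.inl ⟨by omega, Nat.lcm_dvd (by first | assumption | exact dvd_rfl | exact one_dvd _) (hx.trans (by first | assumption | exact dvd_rfl | exact one_dvd _))⟩))))
      | (exact Or.inr (Or.inr (Or.inr (Or.inr (Or.inl ⟨by omega, Nat.lcm_dvd (by first | assumption | exact dvd_rfl | exact one_dvd _) (hx.trans (by first | assumption | exact dvd_rfl | exact one_dvd _))⟩)))))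
      | (exact Or.inr (Or.inr (Or.inr (Or.inr (Or.inr (Or.inl ⟨by omega, Nat.lcm_dvd (by first | assumption | exact dvd_rfl | exact one_dvd _) (hx.trans (by first | assumption | exact dvd_rfl | exact one_dvd _))⟩))))))
      | (exact Or.inr (Or.inr (Or.inr (Or.inr (Or.inr (Or.inr (⟨by omega, Nat.lcm_dvd (by first | assumption | exact dvd_rfl | exact one_dvd _) (hx.trans (by first | assumption | exact dvd_rfl | exact one_dvd _))⟩)))))))
    · rcases hP' with ⟨h1, hx⟩ | ⟨h1, hx⟩ | ⟨h1, hx⟩ | ⟨h1, hx⟩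
      all_goals first
      | (exact Or.inl ⟨by omega, Nat.lcm_dvd (by first | assumption | exact dvd_rfl | exact one_dvd _) (hx.trans (by first | assumption | exact dvd_rfl | exact one_dvd _))⟩)
      | (exact Or.inr (Or.inl ⟨by omega, Nat.lcm_dvd (by first | assumption | exact dvd_rfl | exact one_dvd _) (hx.trans (by first | assumption | exact dvd_rfl | exact one_dvd _))⟩))
      | (exact Or.inr (Or.inr (Or.inl ⟨by omega, Nat.lcm_dvd (by first | assumption | exact dvd_rfl | exact one_dvd _) (hx.trans (by first | assumption | exact dvd_rfl | exact one_dvd _))⟩)))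
      | (exact Or.inr (Or.inr (Or.inr (Or.inl ⟨by omega, Nat.lcm_dvd (by first | assumption | exact dvd_rfl | exact one_dvd _) (hx.trans (by first | assumption | exact dvd_rfl | exact one_dvd _))⟩))))
      | (exact Or.inr (Or.inr (Or.inr (Or.inr (Or.inl ⟨by omega, Nat.lcm_dvd (by first | assumption | exact dvd_rfl | exact one_dvd _) (hx.trans (by first | assumption | exact dvd_rfl | exact one_dvd _))⟩)))))
      | (exact Or.inr (Or.inr (Or.inr (Or.inr (Or.inr (Or.inl ⟨by omega, Nat.lcm_dvd (by first | assumption | exact dvd_rfl | exact one_dvd _) (hx.trans (by first | assumption | exact dvd_rfl | exact one_dvd _))⟩))))))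
      | (exact Or.inr (Or.inr (Or.inr (Or.inr (Or.inr (Or.inr (⟨by omega, Nat.lcm_dvd (by first | assumption | exact dvd_rfl | exact one_dvd _) (hx.trans (by first | assumption | exact dvd_rfl | exact one_dvd _))⟩)))))))

theorem parts_4 {q m A : ℕ} (hq : 2 ≤ q) (h : Parts q 4 m A) : P4 q m A := by
  obtain ⟨f1, f2, f3, f4, f5, f6, f7, f8, f9, f10, f11, f12, f13, f14, f15, f16, f17, f18, f19, f20⟩ := facts hq
  rcases Parts.inv h with ⟨h0, -, -⟩ | ⟨d, e, w', m', A', hd, he, hw, hP, hm, hA⟩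
  · omega
  have hd' : d ≤ 4 := by nlinarith
  have he' : e ≤ 4 := by nlinarith
  have hcases : (d = 4 ∧ e = 1 ∧ w' = 0) ∨ (d = 1 ∧ e = 4 ∧ w' = 0) ∨ (d = 2 ∧ e = 2 ∧ w' = 0) ∨ (d = 3 ∧ e = 1 ∧ w' = 1) ∨ (d = 1 ∧ e = 3 ∧ w' = 1) ∨ (d = 2 ∧ e = 1 ∧ w' = 2) ∨ (d = 1 ∧ e = 2 ∧ w' = 2) ∨ (d = 1 ∧ e = 1 ∧ w' = 3) := by
    interval_cases d <;> interval_cases e <;> omega
  rcases hcases with ⟨rfl, rfl, rfl⟩ | ⟨rfl, rfl, rfl⟩ | ⟨rfl, rfl, rfl⟩ | ⟨rfl, rfl, rfl⟩ | ⟨rfl, rfl, rfl⟩ | ⟨rfl, rfl, rfl⟩ | ⟨rfl, rfl, rfl⟩ | ⟨rfl, rfl, rfl⟩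
  · -- d=4 e=1 w=0
    obtain ⟨rfl, rfl⟩ := parts_0 hP
    have hx : 1 ∣ 1 := dvd_rfl
    
    rcases hm with rfl | rfl
    · first
      | (exact Or.inl ⟨by omega, Nat.lcm_dvd (by first | assumption | exact dvd_rfl | exact one_dvd _) (hx.trans (by first | assumption | exact dvd_rfl | exact one_dvd _))⟩)
      | (exact Or.inr (Or.inl ⟨by omega, Nat.lcm_dvd (by first | assumption | exact dvd_rfl | exact one_dvd _) (hx.trans (by first | assumption | exact dvd_rfl | exact one_dvd _))⟩))
      | (exact Or.inr (Or.inr (Or.inl ⟨by omega, Nat.lcm_dvd (by first | assumption | exact dvd_rfl | exact one_dvd _) (hx.trans (by first | assumption | exact dvd_rfl | exact one_dvd _))⟩)))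
      | (exact Or.inr (Or.inr (Or.inr (Or.inl ⟨by omega, Nat.lcm_dvd (by first | assumption | exact dvd_rfl | exact one_dvd _) (hx.trans (by first | assumption | exact dvd_rfl | exact one_dvd _))⟩))))
      | (exact Or.inr (Or.inr (Or.inr (Or.inr (Or.inl ⟨by omega, Nat.lcm_dvd (by first | assumption | exact dvd_rfl | exact one_dvd _) (hx.trans (by first | assumption | exact dvd_rfl | exact one_dvd _))⟩)))))
      | (exact Or.inr (Or.inr (Or.inr (Or.inr (Or.inr (Or.inl ⟨by omega, Nat.lcm_dvd (by first | assumption | exact dvd_rfl | exact one_dvd _) (hx.trans (by first | assumption | exact dvd_rfl | exact one_dvd _))⟩))))))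
      | (exact Or.inr (Or.inr (Or.inr (Or.inr (Or.inr (Or.inr (⟨by omega, Nat.lcm_dvd (by first | assumption | exact dvd_rfl | exact one_dvd _) (hx.trans (by first | assumption | exact dvd_rfl | exact one_dvd _))⟩)))))))
    · first
      | (exact Or.inl ⟨by omega, Nat.lcm_dvd (by first | assumption | exact dvd_rfl | exact one_dvd _) (hx.trans (by first | assumption | exact dvd_rfl | exact one_dvd _))⟩)
      | (exact Or.inr (Or.inl ⟨by omega, Nat.lcm_dvd (by first | assumption | exact dvd_rfl | exact one_dvd _) (hx.trans (by first | assumption | exact dvd_rfl | exact one_dvd _))⟩))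
      | (exact Or.inr (Or.inr (Or.inl ⟨by omega, Nat.lcm_dvd (by first | assumption | exact dvd_rfl | exact one_dvd _) (hx.trans (by first | assumption | exact dvd_rfl | exact one_dvd _))⟩)))
      | (exact Or.inr (Or.inr (Or.inr (Or.inl ⟨by omega, Nat.lcm_dvd (by first | assumption | exact dvd_rfl | exact one_dvd _) (hx.trans (by first | assumption | exact dvd_rfl | exact one_dvd _))⟩))))
      | (exact Or.inr (Or.inr (Or.inr (Or.inr (Or.inl ⟨by omega, Nat.lcm_dvd (by first | assumption | exact dvd_rfl | exact one_dvd _) (hx.trans (by first | assumption | exact dvd_rfl | exact one_dvd _))⟩)))))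
      | (exact Or.inr (Or.inr (Or.inr (Or.inr (Or.inr (Or.inl ⟨by omega, Nat.lcm_dvd (by first | assumption | exact dvd_rfl | exact one_dvd _) (hx.trans (by first | assumption | exact dvd_rfl | exact one_dvd _))⟩))))))
      | (exact Or.inr (Or.inr (Or.inr (Or.inr (Or.inr (Or.inr (⟨by omega, Nat.lcm_dvd (by first | assumption | exact dvd_rfl | exact one_dvd _) (hx.trans (by first | assumption | exact dvd_rfl | exact one_dvd _))⟩)))))))
  · -- d=1 e=4 w=0
    obtain ⟨rfl, rfl⟩ := parts_0 hP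
    have hx : 1 ∣ 1 := dvd_rfl
    simp only [pow_one] at hm;
    rcases hm with rfl | rfl
    · first
      | (exact Or.inl ⟨by omega, Nat.lcm_dvd (by first | assumption | exact dvd_rfl | exact one_dvd _) (hx.trans (by first | assumption | exact dvd_rfl | exact one_dvd _))⟩)
      | (exact Or.inr (Or.inl ⟨by omega, Nat.lcm_dvd (by first | assumption | exact dvd_rfl | exact one_dvd _) (hx.trans (by first | assumption | exact dvd_rfl | exact one_dvd _))⟩))
      | (exact Or.inr (Or.inr (Or.inl ⟨by omega, Nat.lcm_dvd (by first | assumption | exact dvd_rfl | exact one_dvd _) (hx.trans (by first | assumption | exact dvd_rfl | exact one_dvd _))⟩)))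
      | (exact Or.inr (Or.inr (Or.inr (Or.inl ⟨by omega, Nat.lcm_dvd (by first | assumption | exact dvd_rfl | exact one_dvd _) (hx.trans (by first | assumption | exact dvd_rfl | exact one_dvd _))⟩))))
      | (exact Or.inr (Or.inr (Or.inr (Or.inr (Or.inl ⟨by omega, Nat.lcm_dvd (by first | assumption | exact dvd_rfl | exact one_dvd _) (hx.trans (by first | assumption | exact dvd_rfl | exact one_dvd _))⟩)))))
      | (exact Or.inr (Or.inr (Or.inr (Or.inr (Or.inr (Or.inl ⟨by omega, Nat.lcm_dvd (by first | assumption | exact dvd_rfl | exact one_dvd _) (hx.trans (by first | assumption | exact dvd_rfl | exact one_dvd _))⟩))))))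
      | (exact Or.inr (Or.inr (Or.inr (Or.inr (Or.inr (Or.inr (⟨by omega, Nat.lcm_dvd (by first | assumption | exact dvd_rfl | exact one_dvd _) (hx.trans (by first | assumption | exact dvd_rfl | exact one_dvd _))⟩)))))))
    · first
      | (exact Or.inl ⟨by omega, Nat.lcm_dvd (by first | assumption | exact dvd_rfl | exact one_dvd _) (hx.trans (by first | assumption | exact dvd_rfl | exact one_dvd _))⟩)
      | (exact Or.inr (Or.inl ⟨by omega, Nat.lcm_dvd (by first | assumption | exact dvd_rfl | exact one_dvd _) (hx.trans (by first | assumption | exact dvd_rfl | exact one_dvd _))⟩))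
      | (exact Or.inr (Or.inr (Or.inl ⟨by omega, Nat.lcm_dvd (by first | assumption | exact dvd_rfl | exact one_dvd _) (hx.trans (by first | assumption | exact dvd_rfl | exact one_dvd _))⟩)))
      | (exact Or.inr (Or.inr (Or.inr (Or.inl ⟨by omega, Nat.lcm_dvd (by first | assumption | exact dvd_rfl | exact one_dvd _) (hx.trans (by first | assumption | exact dvd_rfl | exact one_dvd _))⟩))))
      | (exact Or.inr (Or.inr (Or.inr (Or.inr (Or.inl ⟨by omega, Nat.lcm_dvd (by first | assumption | exact dvd_rfl | exact one_dvd _) (hx.trans (by first | assumption | exact dvd_rfl | exact one_dvd _))⟩)))))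
      | (exact Or.inr (Or.inr (Or.inr (Or.inr (Or.inr (Or.inl ⟨by omega, Nat.lcm_dvd (by first | assumption | exact dvd_rfl | exact one_dvd _) (hx.trans (by first | assumption | exact dvd_rfl | exact one_dvd _))⟩))))))
      | (exact Or.inr (Or.inr (Or.inr (Or.inr (Or.inr (Or.inr (⟨by omega, Nat.lcm_dvd (by first | assumption | exact dvd_rfl | exact one_dvd _) (hx.trans (by first | assumption | exact dvd_rfl | exact one_dvd _))⟩)))))))
  · -- d=2 e=2 w=0
    obtain ⟨rfl, rfl⟩ := parts_0 hP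
    have hx : 1 ∣ 1 := dvd_rfl
    
    rcases hm with rfl | rfl
    · first
      | (exact Or.inl ⟨by omega, Nat.lcm_dvd (by first | assumption | exact dvd_rfl | exact one_dvd _) (hx.trans (by first | assumption | exact dvd_rfl | exact one_dvd _))⟩)
      | (exact Or.inr (Or.inl ⟨by omega, Nat.lcm_dvd (by first | assumption | exact dvd_rfl | exact one_dvd _) (hx.trans (by first | assumption | exact dvd_rfl | exact one_dvd _))⟩))
      | (exact Or.inr (Or.inr (Or.inl ⟨by omega, Nat.lcm_dvd (by first | assumption | exact dvd_rfl | exact one_dvd _) (hx.trans (by first | assumption | exact dvd_rfl | exact one_dvd _))⟩)))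
      | (exact Or.inr (Or.inr (Or.inr (Or.inl ⟨by omega, Nat.lcm_dvd (by first | assumption | exact dvd_rfl | exact one_dvd _) (hx.trans (by first | assumption | exact dvd_rfl | exact one_dvd _))⟩))))
      | (exact Or.inr (Or.inr (Or.inr (Or.inr (Or.inl ⟨by omega, Nat.lcm_dvd (by first | assumption | exact dvd_rfl | exact one_dvd _) (hx.trans (by first | assumption | exact dvd_rfl | exact one_dvd _))⟩)))))
      | (exact Or.inr (Or.inr (Or.inr (Or.inr (Or.inr (Or.inl ⟨by omega, Nat.lcm_dvd (by first | assumption | exact dvd_rfl | exact one_dvd _) (hx.trans (by first | assumption | exact dvd_rfl | exact one_dvd _))⟩))))))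
      | (exact Or.inr (Or.inr (Or.inr (Or.inr (Or.inr (Or.inr (⟨by omega, Nat.lcm_dvd (by first | assumption | exact dvd_rfl | exact one_dvd _) (hx.trans (by first | assumption | exact dvd_rfl | exact one_dvd _))⟩)))))))
    · first
      | (exact Or.inl ⟨by omega, Nat.lcm_dvd (by first | assumption | exact dvd_rfl | exact one_dvd _) (hx.trans (by first | assumption | exact dvd_rfl | exact one_dvd _))⟩)
      | (exact Or.inr (Or.inl ⟨by omega, Nat.lcm_dvd (by first | assumption | exact dvd_rfl | exact one_dvd _) (hx.trans (by first | assumption | exact dvd_rfl | exact one_dvd _))⟩))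
      | (exact Or.inr (Or.inr (Or.inl ⟨by omega, Nat.lcm_dvd (by first | assumption | exact dvd_rfl | exact one_dvd _) (hx.trans (by first | assumption | exact dvd_rfl | exact one_dvd _))⟩)))
      | (exact Or.inr (Or.inr (Or.inr (Or.inl ⟨by omega, Nat.lcm_dvd (by first | assumption | exact dvd_rfl | exact one_dvd _) (hx.trans (by first | assumption | exact dvd_rfl | exact one_dvd _))⟩))))
      | (exact Or.inr (Or.inr (Or.inr (Or.inr (Or.inl ⟨by omega, Nat.lcm_dvd (by first | assumption | exact dvd_rfl | exact one_dvd _) (hx.trans (by first | assumption | exact dvd_rfl | exact one_dvd _))⟩)))))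
      | (exact Or.inr (Or.inr (Or.inr (Or.inr (Or.inr (Or.inl ⟨by omega, Nat.lcm_dvd (by first | assumption | exact dvd_rfl | exact one_dvd _) (hx.trans (by first | assumption | exact dvd_rfl | exact one_dvd _))⟩))))))
      | (exact Or.inr (Or.inr (Or.inr (Or.inr (Or.inr (Or.inr (⟨by omega, Nat.lcm_dvd (by first | assumption | exact dvd_rfl | exact one_dvd _) (hx.trans (by first | assumption | exact dvd_rfl | exact one_dvd _))⟩)))))))
  · -- d=3 e=1 w=1
    have hP' := parts_1 hq hP
    unfold P1 at hP'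
    
    rcases hm with rfl | rfl
    · rcases hP' with ⟨h1, hx⟩ | ⟨h1, hx⟩
      all_goals first
      | (exact Or.inl ⟨by omega, Nat.lcm_dvd (by first | assumption | exact dvd_rfl | exact one_dvd _) (hx.trans (by first | assumption | exact dvd_rfl | exact one_dvd _))⟩)
      | (exact Or.inr (Or.inl ⟨by omega, Nat.lcm_dvd (by first | assumption | exact dvd_rfl | exact one_dvd _) (hx.trans (by first | assumption | exact dvd_rfl | exact one_dvd _))⟩))
      | (exact Or.inr (Or.inr (Or.inl ⟨by omega, Nat.lcm_dvd (by first | assumption | exact dvd_rfl | exact one_dvd _) (hx.trans (by first | assumption | exact dvd_rfl | exact one_dvd _))⟩)))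
      | (exact Or.inr (Or.inr (Or.inr (Or.inl ⟨by omega, Nat.lcm_dvd (by first | assumption | exact dvd_rfl | exact one_dvd _) (hx.trans (by first | assumption | exact dvd_rfl | exact one_dvd _))⟩))))
      | (exact Or.inr (Or.inr (Or.inr (Or.inr (Or.inl ⟨by omega, Nat.lcm_dvd (by first | assumption | exact dvd_rfl | exact one_dvd _) (hx.trans (by first | assumption | exact dvd_rfl | exact one_dvd _))⟩)))))
      | (exact Or.inr (Or.inr (Or.inr (Or.inr (Or.inr (Or.inl ⟨by omega, Nat.lcm_dvd (by first | assumption | exact dvd_rfl | exact one_dvd _) (hx.trans (by first | assumption | exact dvd_rfl | exact one_dvd _))⟩))))))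
      | (exact Or.inr (Or.inr (Or.inr (Or.inr (Or.inr (Or.inr (⟨by omega, Nat.lcm_dvd (by first | assumption | exact dvd_rfl | exact one_dvd _) (hx.trans (by first | assumption | exact dvd_rfl | exact one_dvd _))⟩)))))))
    · rcases hP' with ⟨h1, hx⟩ | ⟨h1, hx⟩
      all_goals first
      | (exact Or.inl ⟨by omega, Nat.lcm_dvd (by first | assumption | exact dvd_rfl | exact one_dvd _) (hx.trans (by first | assumption | exact dvd_rfl | exact one_dvd _))⟩)
      | (exact Or.inr (Or.inl ⟨by omega, Nat.lcm_dvd (by first | assumption | exact dvd_rfl | exact one_dvd _) (hx.trans (by first | assumption | exact dvd_rfl | exact one_dvd _))⟩))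
      | (exact Or.inr (Or.inr (Or.inl ⟨by omega, Nat.lcm_dvd (by first | assumption | exact dvd_rfl | exact one_dvd _) (hx.trans (by first | assumption | exact dvd_rfl | exact one_dvd _))⟩)))
      | (exact Or.inr (Or.inr (Or.inr (Or.inl ⟨by omega, Nat.lcm_dvd (by first | assumption | exact dvd_rfl | exact one_dvd _) (hx.trans (by first | assumption | exact dvd_rfl | exact one_dvd _))⟩))))
      | (exact Or.inr (Or.inr (Or.inr (Or.inr (Or.inl ⟨by omega, Nat.lcm_dvd (by first | assumption | exact dvd_rfl | exact one_dvd _) (hx.trans (by first | assumption | exact dvd_rfl | exact one_dvd _))⟩)))))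
      | (exact Or.inr (Or.inr (Or.inr (Or.inr (Or.inr (Or.inl ⟨by omega, Nat.lcm_dvd (by first | assumption | exact dvd_rfl | exact one_dvd _) (hx.trans (by first | assumption | exact dvd_rfl | exact one_dvd _))⟩))))))
      | (exact Or.inr (Or.inr (Or.inr (Or.inr (Or.inr (Or.inr (⟨by omega, Nat.lcm_dvd (by first | assumption | exact dvd_rfl | exact one_dvd _) (hx.trans (by first | assumption | exact dvd_rfl | exact one_dvd _))⟩)))))))
  · -- d=1 e=3 w=1
    have hP' := parts_1 hq hP
    unfold P1 at hP'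
    simp only [pow_one] at hm;
    rcases hm with rfl | rfl
    · rcases hP' with ⟨h1, hx⟩ | ⟨h1, hx⟩
      all_goals first
      | (exact Or.inl ⟨by omega, Nat.lcm_dvd (by first | assumption | exact dvd_rfl | exact one_dvd _) (hx.trans (by first | assumption | exact dvd_rfl | exact one_dvd _))⟩)
      | (exact Or.inr (Or.inl ⟨by omega, Nat.lcm_dvd (by first | assumption | exact dvd_rfl | exact one_dvd _) (hx.trans (by first | assumption | exact dvd_rfl | exact one_dvd _))⟩))
      | (exact Or.inr (Or.inr (Or.inl ⟨by omega, Nat.lcm_dvd (by first | assumption | exact dvd_rfl | exact one_dvd _) (hx.trans (by first | assumption | exact dvd_rfl | exact one_dvd _))⟩)))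
      | (exact Or.inr (Or.inr (Or.inr (Or.inl ⟨by omega, Nat.lcm_dvd (by first | assumption | exact dvd_rfl | exact one_dvd _) (hx.trans (by first | assumption | exact dvd_rfl | exact one_dvd _))⟩))))
      | (exact Or.inr (Or.inr (Or.inr (Or.inr (Or.inl ⟨by omega, Nat.lcm_dvd (by first | assumption | exact dvd_rfl | exact one_dvd _) (hx.trans (by first | assumption | exact dvd_rfl | exact one_dvd _))⟩)))))
      | (exact Or.inr (Or.inr (Or.inr (Or.inr (Or.inr (Or.inl ⟨by omega, Nat.lcm_dvd (by first | assumption | exact dvd_rfl | exact one_dvd _) (hx.trans (by first | assumption | exact dvd_rfl | exact one_dvd _))⟩))))))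
      | (exact Or.inr (Or.inr (Or.inr (Or.inr (Or.inr (Or.inr (⟨by omega, Nat.lcm_dvd (by first | assumption | exact dvd_rfl | exact one_dvd _) (hx.trans (by first | assumption | exact dvd_rfl | exact one_dvd _))⟩)))))))
    · rcases hP' with ⟨h1, hx⟩ | ⟨h1, hx⟩
      all_goals first
      | (exact Or.inl ⟨by omega, Nat.lcm_dvd (by first | assumption | exact dvd_rfl | exact one_dvd _) (hx.trans (by first | assumption | exact dvd_rfl | exact one_dvd _))⟩)
      | (exact Or.inr (Or.inl ⟨by omega, Nat.lcm_dvd (by first | assumption | exact dvd_rfl | exact one_dvd _) (hx.trans (by first | assumption | exact dvd_rfl | exact one_dvd _))⟩))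
      | (exact Or.inr (Or.inr (Or.inl ⟨by omega, Nat.lcm_dvd (by first | assumption | exact dvd_rfl | exact one_dvd _) (hx.trans (by first | assumption | exact dvd_rfl | exact one_dvd _))⟩)))
      | (exact Or.inr (Or.inr (Or.inr (Or.inl ⟨by omega, Nat.lcm_dvd (by first | assumption | exact dvd_rfl | exact one_dvd _) (hx.trans (by first | assumption | exact dvd_rfl | exact one_dvd _))⟩))))
      | (exact Or.inr (Or.inr (Or.inr (Or.inr (Or.inl ⟨by omega, Nat.lcm_dvd (by first | assumption | exact dvd_rfl | exact one_dvd _) (hx.trans (by first | assumption | exact dvd_rfl | exact one_dvd _))⟩)))))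
      | (exact Or.inr (Or.inr (Or.inr (Or.inr (Or.inr (Or.inl ⟨by omega, Nat.lcm_dvd (by first | assumption | exact dvd_rfl | exact one_dvd _) (hx.trans (by first | assumption | exact dvd_rfl | exact one_dvd _))⟩))))))
      | (exact Or.inr (Or.inr (Or.inr (Or.inr (Or.inr (Or.inr (⟨by omega, Nat.lcm_dvd (by first | assumption | exact dvd_rfl | exact one_dvd _) (hx.trans (by first | assumption | exact dvd_rfl | exact one_dvd _))⟩)))))))
  · -- d=2 e=1 w=2
    have hP' := parts_2 hq hP
    unfold P2 at hP'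
    
    rcases hm with rfl | rfl
    · rcases hP' with ⟨h1, hx⟩ | ⟨h1, hx⟩ | ⟨h1, hx⟩ | ⟨h1, hx⟩
      all_goals first
      | (exact Or.inl ⟨by omega, Nat.lcm_dvd (by first | assumption | exact dvd_rfl | exact one_dvd _) (hx.trans (by first | assumption | exact dvd_rfl | exact one_dvd _))⟩)
      | (exact Or.inr (Or.inl ⟨by omega, Nat.lcm_dvd (by first | assumption | exact dvd_rfl | exact one_dvd _) (hx.trans (by first | assumption | exact dvd_rfl | exact one_dvd _))⟩))
      | (exact Or.inr (Or.inr (Or.inl ⟨by omega, Nat.lcm_dvd (by first | assumption | exact dvd_rfl | exact one_dvd _) (hx.trans (by first | assumption | exact dvd_rfl | exact one_dvd _))⟩)))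
      | (exact Or.inr (Or.inr (Or.inr (Or.inl ⟨by omega, Nat.lcm_dvd (by first | assumption | exact dvd_rfl | exact one_dvd _) (hx.trans (by first | assumption | exact dvd_rfl | exact one_dvd _))⟩))))
      | (exact Or.inr (Or.inr (Or.inr (Or.inr (Or.inl ⟨by omega, Nat.lcm_dvd (by first | assumption | exact dvd_rfl | exact one_dvd _) (hx.trans (by first | assumption | exact dvd_rfl | exact one_dvd _))⟩)))))
      | (exact Or.inr (Or.inr (Or.inr (Or.inr (Or.inr (Or.inl ⟨by omega, Nat.lcm_dvd (by first | assumption | exact dvd_rfl | exact one_dvd _) (hx.trans (by first | assumption | exact dvd_rfl | exact one_dvd _))⟩))))))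
      | (exact Or.inr (Or.inr (Or.inr (Or.inr (Or.inr (Or.inr (⟨by omega, Nat.lcm_dvd (by first | assumption | exact dvd_rfl | exact one_dvd _) (hx.trans (by first | assumption | exact dvd_rfl | exact one_dvd _))⟩)))))))
    · rcases hP' with ⟨h1, hx⟩ | ⟨h1, hx⟩ | ⟨h1, hx⟩ | ⟨h1, hx⟩
      all_goals first
      | (exact Or.inl ⟨by omega, Nat.lcm_dvd (by first | assumption | exact dvd_rfl | exact one_dvd _) (hx.trans (by first | assumption | exact dvd_rfl | exact one_dvd _))⟩)
      | (exact Or.inr (Or.inl ⟨by omega, Nat.lcm_dvd (by first | assumption | exact dvd_rfl | exact one_dvd _) (hx.trans (by first | assumption | exact dvd_rfl | exact one_dvd _))⟩))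
      | (exact Or.inr (Or.inr (Or.inl ⟨by omega, Nat.lcm_dvd (by first | assumption | exact dvd_rfl | exact one_dvd _) (hx.trans (by first | assumption | exact dvd_rfl | exact one_dvd _))⟩)))
      | (exact Or.inr (Or.inr (Or.inr (Or.inl ⟨by omega, Nat.lcm_dvd (by first | assumption | exact dvd_rfl | exact one_dvd _) (hx.trans (by first | assumption | exact dvd_rfl | exact one_dvd _))⟩))))
      | (exact Or.inr (Or.inr (Or.inr (Or.inr (Or.inl ⟨by omega, Nat.lcm_dvd (by first | assumption | exact dvd_rfl | exact one_dvd _) (hx.trans (by first | assumption | exact dvd_rfl | exact one_dvd _))⟩)))))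
      | (exact Or.inr (Or.inr (Or.inr (Or.inr (Or.inr (Or.inl ⟨by omega, Nat.lcm_dvd (by first | assumption | exact dvd_rfl | exact one_dvd _) (hx.trans (by first | assumption | exact dvd_rfl | exact one_dvd _))⟩))))))
      | (exact Or.inr (Or.inr (Or.inr (Or.inr (Or.inr (Or.inr (⟨by omega, Nat.lcm_dvd (by first | assumption | exact dvd_rfl | exact one_dvd _) (hx.trans (by first | assumption | exact dvd_rfl | exact one_dvd _))⟩)))))))
  · -- d=1 e=2 w=2
    have hP' := parts_2 hq hP
    unfold P2 at hP'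
    simp only [pow_one] at hm;
    rcases hm with rfl | rfl
    · rcases hP' with ⟨h1, hx⟩ | ⟨h1, hx⟩ | ⟨h1, hx⟩ | ⟨h1, hx⟩
      all_goals first
      | (exact Or.inl ⟨by omega, Nat.lcm_dvd (by first | assumption | exact dvd_rfl | exact one_dvd _) (hx.trans (by first | assumption | exact dvd_rfl | exact one_dvd _))⟩)
      | (exact Or.inr (Or.inl ⟨by omega, Nat.lcm_dvd (by first | assumption | exact dvd_rfl | exact one_dvd _) (hx.trans (by first | assumption | exact dvd_rfl | exact one_dvd _))⟩))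
      | (exact Or.inr (Or.inr (Or.inl ⟨by omega, Nat.lcm_dvd (by first | assumption | exact dvd_rfl | exact one_dvd _) (hx.trans (by first | assumption | exact dvd_rfl | exact one_dvd _))⟩)))
      | (exact Or.inr (Or.inr (Or.inr (Or.inl ⟨by omega, Nat.lcm_dvd (by first | assumption | exact dvd_rfl | exact one_dvd _) (hx.trans (by first | assumption | exact dvd_rfl | exact one_dvd _))⟩))))
      | (exact Or.inr (Or.inr (Or.inr (Or.inr (Or.inl ⟨by omega, Nat.lcm_dvd (by first | assumption | exact dvd_rfl | exact one_dvd _) (hx.trans (by first | assumption | exact dvd_rfl | exact one_dvd _))⟩)))))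
      | (exact Or.inr (Or.inr (Or.inr (Or.inr (Or.inr (Or.inl ⟨by omega, Nat.lcm_dvd (by first | assumption | exact dvd_rfl | exact one_dvd _) (hx.trans (by first | assumption | exact dvd_rfl | exact one_dvd _))⟩))))))
      | (exact Or.inr (Or.inr (Or.inr (Or.inr (Or.inr (Or.inr (⟨by omega, Nat.lcm_dvd (by first | assumption | exact dvd_rfl | exact one_dvd _) (hx.trans (by first | assumption | exact dvd_rfl | exact one_dvd _))⟩)))))))
    · rcases hP' with ⟨h1, hx⟩ | ⟨h1, hx⟩ | ⟨h1, hx⟩ | ⟨h1, hx⟩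
      all_goals first
      | (exact Or.inl ⟨by omega, Nat.lcm_dvd (by first | assumption | exact dvd_rfl | exact one_dvd _) (hx.trans (by first | assumption | exact dvd_rfl | exact one_dvd _))⟩)
      | (exact Or.inr (Or.inl ⟨by omega, Nat.lcm_dvd (by first | assumption | exact dvd_rfl | exact one_dvd _) (hx.trans (by first | assumption | exact dvd_rfl | exact one_dvd _))⟩))
      | (exact Or.inr (Or.inr (Or.inl ⟨by omega, Nat.lcm_dvd (by first | assumption | exact dvd_rfl | exact one_dvd _) (hx.trans (by first | assumption | exact dvd_rfl | exact one_dvd _))⟩)))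
      | (exact Or.inr (Or.inr (Or.inr (Or.inl ⟨by omega, Nat.lcm_dvd (by first | assumption | exact dvd_rfl | exact one_dvd _) (hx.trans (by first | assumption | exact dvd_rfl | exact one_dvd _))⟩))))
      | (exact Or.inr (Or.inr (Or.inr (Or.inr (Or.inl ⟨by omega, Nat.lcm_dvd (by first | assumption | exact dvd_rfl | exact one_dvd _) (hx.trans (by first | assumption | exact dvd_rfl | exact one_dvd _))⟩)))))
      | (exact Or.inr (Or.inr (Or.inr (Or.inr (Or.inr (Or.inl ⟨by omega, Nat.lcm_dvd (by first | assumption | exact dvd_rfl | exact one_dvd _) (hx.trans (by first | assumption | exact dvd_rfl | exact one_dvd _))⟩))))))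
      | (exact Or.inr (Or.inr (Or.inr (Or.inr (Or.inr (Or.inr (⟨by omega, Nat.lcm_dvd (by first | assumption | exact dvd_rfl | exact one_dvd _) (hx.trans (by first | assumption | exact dvd_rfl | exact one_dvd _))⟩)))))))
  · -- d=1 e=1 w=3
    have hP' := parts_3 hq hP
    unfold P3 at hP'
    simp only [pow_one] at hm;
    rcases hm with rfl | rfl
    · rcases hP' with ⟨h1, hx⟩ | ⟨h1, hx⟩ | ⟨h1, hx⟩ | ⟨h1, hx⟩ | ⟨h1, hx⟩ | ⟨h1, hx⟩ | ⟨h1, hx⟩
      all_goals first
      | (exact Or.inl ⟨by omega, Nat.lcm_dvd (by first | assumption | exact dvd_rfl | exact one_dvd _) (hx.trans (by first | assumption | exact dvd_rfl | exact one_dvd _))⟩)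
      | (exact Or.inr (Or.inl ⟨by omega, Nat.lcm_dvd (by first | assumption | exact dvd_rfl | exact one_dvd _) (hx.trans (by first | assumption | exact dvd_rfl | exact one_dvd _))⟩))
      | (exact Or.inr (Or.inr (Or.inl ⟨by omega, Nat.lcm_dvd (by first | assumption | exact dvd_rfl | exact one_dvd _) (hx.trans (by first | assumption | exact dvd_rfl | exact one_dvd _))⟩)))
      | (exact Or.inr (Or.inr (Or.inr (Or.inl ⟨by omega, Nat.lcm_dvd (by first | assumption | exact dvd_rfl | exact one_dvd _) (hx.trans (by first | assumption | exact dvd_rfl | exact one_dvd _))⟩))))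
      | (exact Or.inr (Or.inr (Or.inr (Or.inr (Or.inl ⟨by omega, Nat.lcm_dvd (by first | assumption | exact dvd_rfl | exact one_dvd _) (hx.trans (by first | assumption | exact dvd_rfl | exact one_dvd _))⟩)))))
      | (exact Or.inr (Or.inr (Or.inr (Or.inr (Or.inr (Or.inl ⟨by omega, Nat.lcm_dvd (by first | assumption | exact dvd_rfl | exact one_dvd _) (hx.trans (by first | assumption | exact dvd_rfl | exact one_dvd _))⟩))))))
      | (exact Or.inr (Or.inr (Or.inr (Or.inr (Or.inr (Or.inr (⟨by omega, Nat.lcm_dvd (by first | assumption | exact dvd_rfl | exact one_dvd _) (hx.trans (by first | assumption | exact dvd_rfl | exact one_dvd _))⟩)))))))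
    · rcases hP' with ⟨h1, hx⟩ | ⟨h1, hx⟩ | ⟨h1, hx⟩ | ⟨h1, hx⟩ | ⟨h1, hx⟩ | ⟨h1, hx⟩ | ⟨h1, hx⟩
      all_goals first
      | (exact Or.inl ⟨by omega, Nat.lcm_dvd (by first | assumption | exact dvd_rfl | exact one_dvd _) (hx.trans (by first | assumption | exact dvd_rfl | exact one_dvd _))⟩)
      | (exact Or.inr (Or.inl ⟨by omega, Nat.lcm_dvd (by first | assumption | exact dvd_rfl | exact one_dvd _) (hx.trans (by first | assumption | exact dvd_rfl | exact one_dvd _))⟩))
      | (exact Or.inr (Or.inr (Or.inl ⟨by omega, Nat.lcm_dvd (by first | assumption | exact dvd_rfl | exact one_dvd _) (hx.trans (by first | assumption | exact dvd_rfl | exact one_dvd _))⟩)))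
      | (exact Or.inr (Or.inr (Or.inr (Or.inl ⟨by omega, Nat.lcm_dvd (by first | assumption | exact dvd_rfl | exact one_dvd _) (hx.trans (by first | assumption | exact dvd_rfl | exact one_dvd _))⟩))))
      | (exact Or.inr (Or.inr (Or.inr (Or.inr (Or.inl ⟨by omega, Nat.lcm_dvd (by first | assumption | exact dvd_rfl | exact one_dvd _) (hx.trans (by first | assumption | exact dvd_rfl | exact one_dvd _))⟩)))))
      | (exact Or.inr (Or.inr (Or.inr (Or.inr (Or.inr (Or.inl ⟨by omega, Nat.lcm_dvd (by first | assumption | exact dvd_rfl | exact one_dvd _) (hx.trans (by first | assumption | exact dvd_rfl | exact one_dvd _))⟩))))))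
      | (exact Or.inr (Or.inr (Or.inr (Or.inr (Or.inr (Or.inr (⟨by omega, Nat.lcm_dvd (by first | assumption | exact dvd_rfl | exact one_dvd _) (hx.trans (by first | assumption | exact dvd_rfl | exact one_dvd _))⟩)))))))


/-- The twelve exponents. -/
def IsExp (q T : ℕ) : Prop :=
  T = q ^ 4 + 1 ∨ T = q ^ 4 - 1 ∨ T = (q ^ 3 + 1) * (q - 1) ∨ T = (q ^ 3 - 1) * (q + 1) ∨
  T = 2 * (q ^ 3 + 1) ∨ T = 2 * (q ^ 3 - 1) ∨ T = 2 * ((q ^ 2 + 1) * (q + 1)) ∨
  T = 2 * ((q ^ 2 + 1) * (q - 1)) ∨ T = 4 * (q ^ 2 + 1) ∨ T = 4 * (q ^ 2 - 1) ∨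
  T = 8 * (q + 1) ∨ T = 8 * (q - 1)

theorem numeric {q w m A μ : ℕ} (hq : 2 ≤ q) (h : Parts q w m A) (hμ : 2 * w + μ = 8) :
    ∃ a T, IsExp q T ∧ m * 2 ^ a ∣ T ∧ μ ≤ 2 ^ a ∧ A ≤ 2 ^ a := by
  obtain ⟨f1, f2, f3, f4, f5, f6, f7, f8, f9, f10, f11, f12, f13, f14, f15, f16, f17, f18, f19, f20⟩ := facts hq
  have hw : w = 0 ∨ w = 1 ∨ w = 2 ∨ w = 3 ∨ w = 4 := by omega
  unfold IsExp
  rcases hw with rfl | rfl | rfl | rfl | rfl
  · obtain ⟨rfl, rfl⟩ := parts_0 h
    obtain rfl : μ = 8 := by omega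
    refine ⟨3, 8 * (q + 1), by simp, ?_, by norm_num, by norm_num⟩
    exact ⟨q + 1, by ring⟩
  · obtain rfl : μ = 6 := by omega
    rcases parts_1 hq h with ⟨h1, hx⟩ | ⟨h1, hx⟩
    · refine ⟨3, 8 * (q + 1), by simp, ?_, by norm_num, by norm_num; omega⟩
      rw [mul_comm]; exact mul_dvd_mul (by norm_num) hx
    · refine ⟨3, 8 * (q - 1), by simp, ?_, by norm_num, by norm_num; omega⟩
      rw [mul_comm]; exact mul_dvd_mul (by norm_num) hx
  · obtain rfl : μ = 4 := by omega
    rcases parts_2 hq h with ⟨h1, hx⟩ | ⟨h1, hx⟩ | ⟨h1, hx⟩ | ⟨h1, hx⟩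
    · refine ⟨2, 4 * (q ^ 2 + 1), by simp, ?_, by norm_num, by norm_num; omega⟩
      rw [mul_comm]; exact mul_dvd_mul (by norm_num) hx
    · refine ⟨2, 4 * (q ^ 2 - 1), by simp, ?_, by norm_num, by norm_num; omega⟩
      rw [mul_comm]; exact mul_dvd_mul (by norm_num) hx
    · refine ⟨2, 4 * (q ^ 2 - 1), by simp, ?_, by norm_num, by norm_num; omega⟩
      rw [mul_comm]; exact mul_dvd_mul (by norm_num) (hx.trans f1)
    · refine ⟨2, 4 * (q ^ 2 - 1), by simp, ?_, by norm_num, by norm_num; omega⟩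
      rw [mul_comm]; exact mul_dvd_mul (by norm_num) (hx.trans f2)
  · obtain rfl : μ = 2 := by omega
    rcases parts_3 hq h with ⟨h1, hx⟩ | ⟨h1, hx⟩ | ⟨h1, hx⟩ | ⟨h1, hx⟩ | ⟨h1, hx⟩ | ⟨h1, hx⟩ | ⟨h1, hx⟩
    · refine ⟨1, 2 * (q ^ 3 + 1), by simp, ?_, by norm_num, by norm_num; omega⟩
      rw [mul_comm]; exact mul_dvd_mul (by norm_num) hx
    · refine ⟨1, 2 * (q ^ 3 - 1), by simp, ?_, by norm_num, by norm_num; omega⟩
      rw [mul_comm]; exact mul_dvd_mul (by norm_num) hx
    · refine ⟨1, 2 * ((q ^ 2 + 1) * (q + 1)), by simp, ?_, by norm_num, by norm_num; omega⟩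
      rw [mul_comm]; exact mul_dvd_mul (by norm_num) hx
    · refine ⟨1, 2 * ((q ^ 2 + 1) * (q - 1)), by simp, ?_, by norm_num, by norm_num; omega⟩
      rw [mul_comm]; exact mul_dvd_mul (by norm_num) hx
    · refine ⟨1, 4 * (q ^ 2 - 1), by simp, ?_, by norm_num, by norm_num; omega⟩
      rw [mul_comm]; exact mul_dvd_mul (by norm_num) hx
    · refine ⟨2, 4 * (q ^ 2 - 1), by simp, ?_, by norm_num, by norm_num; omega⟩
      rw [mul_comm]; exact mul_dvd_mul (by norm_num) (hx.trans f1)
    · refine ⟨2, 4 * (q ^ 2 - 1), by simp, ?_, by norm_num, by norm_num; omega⟩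
      rw [mul_comm]; exact mul_dvd_mul (by norm_num) (hx.trans f2)
  · obtain rfl : μ = 0 := by omega
    rcases parts_4 hq h with ⟨h1, hx⟩ | ⟨h1, hx⟩ | ⟨h1, hx⟩ | ⟨h1, hx⟩ | ⟨h1, hx⟩ | ⟨h1, hx⟩ | ⟨h1, hx⟩
    · exact ⟨0, q ^ 4 + 1, by simp, by simpa using hx, by norm_num, by norm_num; omega⟩
    · exact ⟨0, q ^ 4 - 1, by simp, by simpa using hx, by norm_num, by norm_num; omega⟩
    · exact ⟨0, (q ^ 3 + 1) * (q - 1), by simp, by simpa using hx, by norm_num, by norm_num; omega⟩
    · exact ⟨0, (q ^ 3 - 1) * (q + 1), by simp, by simpa using hx, by norm_num, by norm_num; omega⟩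
    · refine ⟨1, 2 * ((q ^ 2 + 1) * (q + 1)), by simp, ?_, by norm_num, by norm_num; omega⟩
      rw [mul_comm]; exact mul_dvd_mul (by norm_num) hx
    · refine ⟨1, 2 * ((q ^ 2 + 1) * (q - 1)), by simp, ?_, by norm_num, by norm_num; omega⟩
      rw [mul_comm]; exact mul_dvd_mul (by norm_num) hx
    · refine ⟨2, 4 * (q ^ 2 - 1), by simp, ?_, by norm_num, by norm_num; omega⟩
      rw [mul_comm]; exact mul_dvd_mul (by norm_num) hx

section poly

variable {F : Type*} [Field F]

lemma pstar_mul {f g : F[X]} (hf : f.coeff 0 ≠ 0) (hg : g.coeff 0 ≠ 0) :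
    pstar (f * g) = pstar f * pstar g := by
  unfold pstar
  rw [reverse_mul_of_domain, mul_coeff_zero, mul_inv, C_mul]
  ring

lemma coeff_zero_pow_ne {f : F[X]} (hf : f.coeff 0 ≠ 0) (e : ℕ) : (f ^ e).coeff 0 ≠ 0 := by
  rw [coeff_zero_eq_eval_zero, eval_pow]
  exact pow_ne_zero _ (by rwa [← coeff_zero_eq_eval_zero])

lemma pstar_pow {f : F[X]} (hf : f.coeff 0 ≠ 0) (e : ℕ) : pstar (f ^ e) = pstar f ^ e := by
  induction e with
  | zero =>
    unfold pstar
    have h1 : (1 : F[X]).reverse = 1 := by simpa using reverse_C (1 : F)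
    simp [h1]
  | succ e ih =>
    rw [pow_succ, pstar_mul (coeff_zero_pow_ne hf e) hf, ih, pow_succ]

lemma pstar_pstar {π : F[X]} (hm : π.Monic) (h0 : π.coeff 0 ≠ 0) : pstar (pstar π) = π := by
  show C ((pstar π).coeff 0)⁻¹ * (pstar π).reverse = π
  rw [reverse_pstar h0, pstar_coeff_zero hm, inv_inv, ← mul_assoc, ← C_mul, mul_inv_cancel₀ h0, C_1, one_mul]

lemma X_pow_sub_one_dvd {a b : ℕ} (h : a ∣ b) : (X ^ a - 1 : F[X]) ∣ X ^ b - 1 := by
  obtain ⟨k, rfl⟩ := h
  rw [pow_mul]
  simpa using sub_dvd_pow_sub_pow (X ^ a : F[X]) 1 k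

lemma coeff_zero_X_sub_one_ne : (X - 1 : F[X]).coeff 0 ≠ 0 := by
  simp

lemma monic_X_sub_one : (X - 1 : F[X]).Monic := by
  simpa using monic_X_sub_C (1 : F)

lemma natDegree_X_sub_one : (X - 1 : F[X]).natDegree = 1 := by
  simpa using natDegree_X_sub_C (1 : F)

lemma pstar_X_sub_one : pstar (X - 1 : F[X]) = X - 1 := by
  have h0 : (X - 1 : F[X]).coeff 0 ≠ 0 := coeff_zero_X_sub_one_ne
  have h1 := (pstar_monic h0).eq_X_add_C (by rw [pstar_natDegree h0, natDegree_X_sub_one])
  rw [h1, pstar_coeff_zero monic_X_sub_one]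
  simp [sub_eq_add_neg]

end poly

section finite

variable {F : Type*} [Field F] [Fintype F]

/-- Peeling off the factors different from `X - 1`. -/
theorem peel [CharP F 2] (n : ℕ) : ∀ χ : F[X], χ.Monic → χ.natDegree = n → χ.coeff 0 ≠ 0 → pstar χ = χ →
    ¬ (X - 1) ∣ χ →
    ∃ w m A, n = 2 * w ∧ Parts (Fintype.card F) w m A ∧ χ ∣ (X ^ m - 1) ^ A := by
  induction n using Nat.strong_induction_on with
  | _ n ih =>
  intro χ hm hd h0 hs hX
  set q := Fintype.card F with hq
  by_cases hu : IsUnit χ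
  · have : χ = 1 := hm.eq_one_of_isUnit hu
    subst this
    refine ⟨0, 1, 0, ?_, Parts.nil, by simp⟩
    simpa using hd.symm
  obtain ⟨π, hπm, hπ, hπd⟩ : ∃ π : F[X], π.Monic ∧ Irreducible π ∧ π ∣ χ := by
    obtain ⟨ρ, hρm, hρ, χ', hχ'⟩ := exists_monic_irreducible_factor χ hu
    exact ⟨ρ, hρm, hρ, χ', hχ'⟩
  have hπ0 : π.coeff 0 ≠ 0 := by
    obtain ⟨k, hk⟩ := hπd
    rw [hk, mul_coeff_zero] at h0
    exact left_ne_zero_of_mul h0
  obtain ⟨e, g, he, hχ, hng⟩ : ∃ e g, 1 ≤ e ∧ χ = π ^ e * g ∧ ¬ π ∣ g := by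
    have hfin : FiniteMultiplicity π χ := FiniteMultiplicity.of_not_isUnit hπ.not_isUnit hm.ne_zero
    obtain ⟨g, h1, h2⟩ := hfin.exists_eq_pow_mul_and_not_dvd
    refine ⟨_, g, ?_, h1, h2⟩
    by_contra hc
    have hc0 : multiplicity π χ = 0 := by omega
    rw [hc0, pow_zero, one_mul] at h1
    rw [← h1] at h2
    exact h2 hπd
  subst hχ
  have hg0 : g.coeff 0 ≠ 0 := by
    rw [mul_coeff_zero] at h0
    exact right_ne_zero_of_mul h0
  have hpe0 := coeff_zero_pow_ne hπ0 e
  have hgm : g.Monic := (hπm.pow e).of_mul_monic_left hm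
  have hdeg : n = π.natDegree * e + g.natDegree := by
    rw [← hd, (hπm.pow e).natDegree_mul hgm, hπm.natDegree_pow, mul_comm]
  have hπpos := hπ.natDegree_pos
  have hgX : ¬ (X - 1) ∣ g := fun h => hX (h.trans (dvd_mul_left _ _))
  have hπX : π ≠ X - 1 := by
    rintro rfl
    exact hX ((dvd_pow_self _ (by omega)).trans (dvd_mul_right _ _))
  have hs' := hs
  rw [pstar_mul hpe0 hg0, pstar_pow hπ0] at hs'
  have hepos : 0 < e := he
  by_cases hself : pstar π = π
  · -- self-reciprocal factor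
    rw [hself] at hs'
    have hgs : pstar g = g := mul_left_cancel₀ (pow_ne_zero _ hπ.ne_zero) hs'
    have hd2 : 2 ≤ π.natDegree := by
      by_contra hc
      have h1 : π.natDegree = 1 := by omega
      have h2 := pstar_deg_one hπm hself h1
      have h3 : (X ^ 2 - 1 : F[X]) = (X - 1) ^ 2 := by
        have h4 : (2 : F[X]) = 0 := CharTwo.two_eq_zero
        linear_combination (X - 1) * h4
      rw [h3] at h2
      have h5 := hπ.prime.dvd_of_dvd_pow h2
      have hX1 : (X - 1 : F[X]).Monic := monic_X_sub_C (1 : F) |> fun h => by simpa using h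
      have hX1d : (X - 1 : F[X]).natDegree = 1 := by
        have := natDegree_X_sub_C (1 : F)
        simpa using this
      exact hπX (eq_of_monic_of_dvd_of_natDegree_le hπm hX1 h5 (by omega)).symm
    obtain ⟨t, ht, ht1, htd⟩ := selfrec_dvd 2 hπ hπm hπ0 hself hd2
    obtain ⟨w', m', A', hw', hP', hdv⟩ := ih g.natDegree (by nlinarith) g hgm rfl hg0 hgs hgX
    refine ⟨w' + t * e, _, _, ?_, Parts.plus t e ht1 he hP', ?_⟩
    · rw [hdeg, ht, hw']; ring
    · have hcop : IsCoprime (π ^ e) g := ((hπ.coprime_iff_not_dvd).2 hng).pow_left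
      apply hcop.mul_dvd
      · refine (pow_dvd_pow_of_dvd (htd.trans (X_pow_sub_one_dvd (Nat.dvd_lcm_left _ m'))) e).trans ?_
        exact pow_dvd_pow _ (le_max_left _ _)
      · refine hdv.trans ((pow_dvd_pow_of_dvd (X_pow_sub_one_dvd (Nat.dvd_lcm_right (q ^ t + 1) m')) A').trans ?_)
        exact pow_dvd_pow _ (le_max_right _ _)
  · -- a pair of factors
    set π' := pstar π with hπ'
    have hπ'm : π'.Monic := pstar_monic hπ0
    have hπ'i : Irreducible π' := pstar_irreducible hπ hπ0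
    have hπ'0 : π'.coeff 0 ≠ 0 := pstar_coeff_zero_ne hπm hπ0
    have hπ'π : pstar π' = π := pstar_pstar hπm hπ0
    have hnd : ¬ π' ∣ π := by
      intro h
      exact hself (eq_of_monic_of_dvd_of_natDegree_le hπ'm hπm h (by rw [hπ', pstar_natDegree hπ0])).symm
    have hcopp : IsCoprime π' π := (hπ'i.coprime_iff_not_dvd).2 hnd
    have hdvd1 : π' ^ e ∣ π ^ e * g := by
      exact ⟨pstar g, hs'.symm⟩
    have hdvd2 : π' ^ e ∣ g := (hcopp.pow (m := e) (n := e)).dvd_of_dvd_mul_left hdvd1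
    obtain ⟨h, rfl⟩ := hdvd2
    have hp'e0 := coeff_zero_pow_ne hπ'0 e
    have hh0 : h.coeff 0 ≠ 0 := by
      rw [mul_coeff_zero] at hg0
      exact right_ne_zero_of_mul hg0
    have hhm : h.Monic := (hπ'm.pow e).of_mul_monic_left hgm
    have hgX' : ¬ (X - 1) ∣ h := fun hh => hgX (hh.trans (dvd_mul_left _ _))
    have hs2 := hs'
    rw [pstar_mul hp'e0 hh0, pstar_pow hπ'0, hπ'π] at hs2
    have hhs : pstar h = h := by
      have hne : π ^ e * π' ^ e ≠ 0 := mul_ne_zero (pow_ne_zero _ hπ.ne_zero) (pow_ne_zero _ hπ'i.ne_zero)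
      apply mul_left_cancel₀ hne
      linear_combination hs2
    have hnh : ¬ π ∣ h := fun hh => hng (hh.trans (dvd_mul_left _ _))
    have hnh' : ¬ π' ∣ h := by
      rintro ⟨k, hk⟩
      apply hnh
      have hk0 : k.coeff 0 ≠ 0 := by
        rw [hk, mul_coeff_zero] at hh0
        exact right_ne_zero_of_mul hh0
      have := congrArg pstar hk
      rw [hhs, pstar_mul hπ'0 hk0, hπ'π] at this
      rw [this]
      exact dvd_mul_right _ _
    have hπ'deg : π'.natDegree = π.natDegree := pstar_natDegree hπ0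
    have hgdeg : (π' ^ e * h).natDegree = π.natDegree * e + h.natDegree := by
      rw [(hπ'm.pow e).natDegree_mul hhm, hπ'm.natDegree_pow, hπ'deg, mul_comm]
    obtain ⟨w', m', A', hw', hP', hdv⟩ := ih h.natDegree (by nlinarith) h hhm rfl hh0 hhs hgX'
    have hXd : ¬ π ∣ X := not_dvd_X hπ hπ0
    have hXd' : ¬ π' ∣ X := not_dvd_X hπ'i hπ'0
    have h1 : π ∣ X ^ (q ^ π.natDegree - 1) - 1 := Lib.SLn.Basic.irreducible_dvd_X_pow_sub_one π hπ hXd
    have h2 : π' ∣ X ^ (q ^ π.natDegree - 1) - 1 := by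
      have := Lib.SLn.Basic.irreducible_dvd_X_pow_sub_one π' hπ'i hXd'
      rwa [hπ'deg] at this
    have h3 : π * π' ∣ X ^ (q ^ π.natDegree - 1) - 1 := hcopp.symm.mul_dvd h1 h2
    refine ⟨w' + π.natDegree * e, _, _, ?_, Parts.minus π.natDegree e hπpos he hP', ?_⟩
    · rw [hdeg, hgdeg, hw']; ring
    · have hcop : IsCoprime (π * π') h :=
        IsCoprime.mul_left ((hπ.coprime_iff_not_dvd).2 hnh) ((hπ'i.coprime_iff_not_dvd).2 hnh')
      rw [← mul_assoc, ← mul_pow]
      apply (hcop.pow_left (m := e)).mul_dvd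
      · refine (pow_dvd_pow_of_dvd (h3.trans (X_pow_sub_one_dvd (Nat.dvd_lcm_left _ m'))) e).trans ?_
        exact pow_dvd_pow _ (le_max_left _ _)
      · refine hdv.trans ((pow_dvd_pow_of_dvd (X_pow_sub_one_dvd (Nat.dvd_lcm_right (q ^ π.natDegree - 1) m')) A').trans ?_)
        exact pow_dvd_pow _ (le_max_right _ _)

/-- A monic self-reciprocal polynomial of degree eight divides `X ^ T - 1` for one of the twelve exponents:
the data. -/
theorem exists_exp_data [CharP F 2] {χ : F[X]} (hm : χ.Monic) (hd : χ.natDegree = 8) (h0 : χ.coeff 0 ≠ 0)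
    (hs : pstar χ = χ) : ∃ μ g m a T, χ = (X - 1) ^ μ * g ∧ ¬ (X - 1) ∣ g ∧ IsExp (Fintype.card F) T ∧
      m * 2 ^ a ∣ T ∧ μ ≤ 2 ^ a ∧ χ ∣ X ^ (m * 2 ^ a) - 1 := by
  have hq2 : 2 ≤ Fintype.card F := Fintype.one_lt_card
  have hX0 : (X - 1 : F[X]).coeff 0 ≠ 0 := coeff_zero_X_sub_one_ne
  have hirr : Irreducible (X - 1 : F[X]) := by
    simpa using irreducible_X_sub_C (1 : F)
  obtain ⟨μ, g, hχ, hng⟩ : ∃ μ g, χ = (X - 1) ^ μ * g ∧ ¬ (X - 1) ∣ g := by
    have hfin : FiniteMultiplicity (X - 1 : F[X]) χ :=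
      FiniteMultiplicity.of_not_isUnit hirr.not_isUnit hm.ne_zero
    obtain ⟨g, h1, h2⟩ := hfin.exists_eq_pow_mul_and_not_dvd
    exact ⟨_, g, h1, h2⟩
  subst hχ
  have hg0 : g.coeff 0 ≠ 0 := by
    rw [mul_coeff_zero] at h0
    exact right_ne_zero_of_mul h0
  have hpe0 := coeff_zero_pow_ne hX0 μ
  have hgm : g.Monic := (monic_X_sub_one.pow μ).of_mul_monic_left hm
  have hdeg : 8 = μ + g.natDegree := by
    rw [← hd, (monic_X_sub_one.pow μ).natDegree_mul hgm, monic_X_sub_one.natDegree_pow,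
      natDegree_X_sub_one, mul_one]
  have hs' := hs
  rw [pstar_mul hpe0 hg0, pstar_pow hX0, pstar_X_sub_one] at hs'
  have hgs : pstar g = g := mul_left_cancel₀ (pow_ne_zero _ hirr.ne_zero) hs'
  obtain ⟨w, m, A, hw, hP, hdv⟩ := peel g.natDegree g hgm rfl hg0 hgs hng
  obtain ⟨a, T, hT, hdT, h1, h2⟩ := numeric hq2 hP (μ := μ) (by omega)
  refine ⟨μ, g, m, a, T, rfl, hng, hT, hdT, h1, ?_⟩
  have hmain : (X ^ m - 1 : F[X]) ^ 2 ^ a = X ^ (m * 2 ^ a) - 1 := by
    rw [sub_pow_char_pow, one_pow, pow_mul]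
  rw [← hmain]
  have hcop : IsCoprime ((X - 1 : F[X]) ^ μ) g := ((hirr.coprime_iff_not_dvd).2 hng).pow_left
  apply hcop.mul_dvd
  · have h3 : (X - 1 : F[X]) ∣ X ^ m - 1 := by
      have := X_pow_sub_one_dvd (F := F) (one_dvd m)
      rwa [pow_one] at this
    exact (pow_dvd_pow_of_dvd h3 μ).trans (pow_dvd_pow _ h1)
  · exact hdv.trans (pow_dvd_pow _ h2)

/-- A monic self-reciprocal polynomial of degree eight divides `X ^ T - 1` for one of the twelve exponents. -/
theorem exists_exp [CharP F 2] {χ : F[X]} (hm : χ.Monic) (hd : χ.natDegree = 8) (h0 : χ.coeff 0 ≠ 0)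
    (hs : pstar χ = χ) : ∃ T, IsExp (Fintype.card F) T ∧ χ ∣ X ^ T - 1 := by
  obtain ⟨μ, g, m, a, T, -, -, hT, hdT, -, hdv⟩ := exists_exp_data hm hd h0 hs
  exact ⟨T, hT, hdv.trans (X_pow_sub_one_dvd hdT)⟩

end finite

end Cfsg.Agent.Lib.SpEight.Poly
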