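import Mathlib
import Cfsg.Agent.Lib.SpEight.Models
import Cfsg.Agent.Lib.SpEight.Poly

set_option autoImplicit false
set_option linter.unusedSectionVars false
set_option linter.unusedVariables false
set_option linter.unusedSimpArgs false
set_option linter.style.haveILetI false

/-!
The twelve exponents are element orders of the orthogonal group of minus type in dimension eight.
-/

namespace Cfsg.Agent.Lib.SpEight.Orders

open Module QuadraticMap
open Cfsg.Agent.Lib.Classical.Quad Cfsg.Agent.Lib.Classical.QuadOrders Cfsg.Agent.Lib.Classical.QuadHyp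
open Cfsg.Agent.Lib.SpEight.Atoms Cfsg.Agent.Lib.SpEight.Models Cfsg.Agent.Lib.SpEight.Poly

universe u

theorem cop_of {x y k l : ℕ} (h : k * x = l * y + 2) (hy : Odd y) : Nat.Coprime x y := by
  have h1 : Nat.gcd x y ∣ k * x := (Nat.gcd_dvd_left x y).mul_left k
  have h2 : Nat.gcd x y ∣ l * y := (Nat.gcd_dvd_right x y).mul_left l
  rw [h] at h1
  have h3 : Nat.gcd x y ∣ 2 := (Nat.dvd_add_right h2).1 h1
  have h4 : Nat.gcd x y ≠ 2 := by
    intro h5
    have h6 : 2 ∣ y := h5 ▸ Nat.gcd_dvd_right x y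
    exact (Nat.not_even_iff_odd.2 hy) (even_iff_two_dvd.2 h6)
  rcases (Nat.dvd_prime Nat.prime_two).1 h3 with h5 | h5
  · exact h5
  · exact absurd h5 h4

variable {F : Type u} [Field F] [Finite F] [CharP F 2]

theorem even_card : Even (Nat.card F) := by
  haveI := Fintype.ofFinite F
  obtain ⟨n, hn, hn'⟩ := FiniteField.card F 2
  rw [Nat.card_eq_fintype_card, hn']
  exact (even_two).pow_of_ne_zero n.ne_zero 

/-- Each of the twelve exponents is the order of an isometry. -/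
theorem has_all {a b : F}
    (hab : ∀ z₁ z₂ : F, z₁ ^ 2 + a * z₁ * z₂ + b * z₂ ^ 2 = 0 → z₁ = 0 ∧ z₂ = 0) {T : ℕ}
    (hT : IsExp (Nat.card F) T) : Has (qMinus 3 a b) T := by
  have ha : a ≠ 0 := a_ne_zero hab
  set q := Nat.card F with hq
  have hq2 : 2 ≤ q := Finite.one_lt_card
  have hev : Even q := even_card
  obtain ⟨p, hp⟩ : ∃ p, q = p + 1 := ⟨q - 1, by omega⟩
  have hpo : Odd p := by
    rcases Nat.even_or_odd p with h | h
    · exfalso
      rw [hp] at hev
      exact (Nat.not_even_iff_odd.2 h.add_one) hev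
    · exact h
  have e1 : q - 1 = p := by omega
  have e2m : q ^ 2 - 1 = (q + 1) * p := by rw [hp]; exact Nat.sub_eq_of_eq_add (by ring)
  have e3m : q ^ 3 - 1 = p * (p ^ 2 + 3 * p + 3) := by rw [hp]; exact Nat.sub_eq_of_eq_add (by ring)
  have e4m : q ^ 4 - 1 = (q ^ 2 + 1) * (q ^ 2 - 1) := by
    rw [e2m, hp]
    exact Nat.sub_eq_of_eq_add (by ring)
  have o1 : Odd (q + 1) := hev.add_one
  have o2 : Odd (q ^ 2 + 1) := (hev.pow_of_ne_zero (by norm_num)).add_one
  have o3 : Odd (q ^ 3 + 1) := (hev.pow_of_ne_zero (by norm_num)).add_one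
  have o2m : Odd (q ^ 2 - 1) := by rw [e2m]; exact o1.mul hpo
  have o3m : Odd (q ^ 3 - 1) := by
    have h : Even (q ^ 3) := hev.pow_of_ne_zero (by norm_num)
    have h1 : 1 ≤ q ^ 3 := Nat.one_le_pow _ _ (by omega)
    exact Nat.Even.sub_odd h1 h odd_one
  -- the atoms
  have T1 : Has (qMinus 0 a b) (q + 1) := by
    have := has_T (F := F) 0 hab
    simpa using this
  have T1' : Has (qBin a b) (q + 1) := has_minus_zero' T1
  have T2 : Has (qMinus 1 a b) (q ^ 2 + 1) := has_T (F := F) 1 hab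
  have T3 : Has (qMinus 2 a b) (q ^ 3 + 1) := has_T (F := F) 2 hab
  have T4 : Has (qMinus 3 a b) (q ^ 4 + 1) := has_T (F := F) 3 hab
  have H1 : Has (qPlus 1 F) p := by
    have := has_H (F := F) (d := 1) le_rfl
    rwa [pow_one, ← hq, e1] at this
  have H2 : Has (qPlus 2 F) (q ^ 2 - 1) := has_H (F := F) (d := 2) (by norm_num)
  have H3 : Has (qPlus 3 F) (q ^ 3 - 1) := has_H (F := F) (d := 3) (by norm_num)
  have S1 : Has (qPlus 1 F) 2 := has_swap
  have τ : Has (qBin a b) 2 := has_tau ha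
  have U4 : Has (qPlus 2 F) 4 := has_u4
  have U8p : Has (qPlus 3 F) 8 := has_u8_plus
  have U8m : Has (qMinus 2 a b) 8 := has_u8 ha
  have c2 : ∀ {x : ℕ}, Odd x → Nat.Coprime x 2 := fun {x} hx =>
    Nat.Coprime.symm (Nat.coprime_two_left.2 hx)
  have cp : ∀ {x : ℕ} (n : ℕ), Odd x → Nat.Coprime x (2 ^ n) := fun {x} n hx =>
    Nat.Coprime.pow_right n (c2 hx)
  have c4 : ∀ {x : ℕ}, Odd x → Nat.Coprime x 4 := fun {x} hx => cp 2 hx
  have c8 : ∀ {x : ℕ}, Odd x → Nat.Coprime x 8 := fun {x} hx => cp 3 hx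
  unfold IsExp at hT
  rcases hT with rfl | rfl | rfl | rfl | rfl | rfl | rfl | rfl | rfl | rfl | rfl | rfl
  · exact T4
  · -- q⁴ - 1
    have h := has_minus_plus T2 H2
    have hc : Nat.Coprime (q ^ 2 + 1) (q ^ 2 - 1) :=
      cop_of (k := 1) (l := 1) (by rw [one_mul, one_mul, e2m, hp]; ring) o2m
    rw [hc.lcm_eq_mul, ← e4m] at h
    exact h
  · -- (q³ + 1)(q - 1)
    have h := has_minus_plus T3 H1
    have hc : Nat.Coprime (q ^ 3 + 1) p :=
      cop_of (k := 1) (l := q ^ 2 + q + 1) (by rw [one_mul, hp]; ring) hpo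
    rw [hc.lcm_eq_mul] at h
    rw [e1]
    exact h
  · -- (q³ - 1)(q + 1)
    have h := has_minus_plus T1 H3
    have hc : Nat.Coprime (q + 1) (q ^ 3 - 1) :=
      cop_of (k := p ^ 2 + p + 1) (l := 1) (by rw [e3m, hp]; ring) o3m
    rw [hc.lcm_eq_mul, mul_comm] at h
    exact h
  · -- 2 (q³ + 1)
    have h := has_minus_plus T3 S1
    rw [(c2 o3).lcm_eq_mul, mul_comm] at h
    exact h
  · -- 2 (q³ - 1)
    have h := has_minus_plus (has_minus_zero τ) H3
    rw [(c2 o3m).symm.lcm_eq_mul] at h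
    exact h
  · -- 2 (q² + 1)(q + 1)
    have h := has_minus_plus T2 (has_bin_bin ha T1' τ)
    have hc : Nat.Coprime (q ^ 2 + 1) (q + 1) :=
      cop_of (k := 1) (l := p) (by rw [one_mul, hp]; ring) o1
    rw [(c2 o1).lcm_eq_mul, (hc.mul_right (c2 o2)).lcm_eq_mul] at h
    convert h using 1
    ring
  · -- 2 (q² + 1)(q - 1)
    have h := has_minus_plus T2 (has_plus_plus H1 S1)
    have hc : Nat.Coprime (q ^ 2 + 1) p :=
      cop_of (k := 1) (l := q + 1) (by rw [one_mul, hp]; ring) hpo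
    rw [(c2 hpo).lcm_eq_mul, (hc.mul_right (c2 o2)).lcm_eq_mul] at h
    rw [e1]
    convert h using 1
    ring
  · -- 4 (q² + 1)
    have h := has_minus_plus T2 U4
    rw [(c4 o2).lcm_eq_mul, mul_comm] at h
    exact h
  · -- 4 (q² - 1)
    have h := has_minus_plus T1 (has_plus_plus H1 U4)
    have hc : Nat.Coprime (q + 1) p :=
      cop_of (k := 1) (l := 1) (by rw [hp]; ring) hpo
    rw [(c4 hpo).lcm_eq_mul, (hc.mul_right (c4 o1)).lcm_eq_mul] at h
    rw [e2m]
    convert h using 1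
    ring
  · -- 8 (q + 1)
    have h := has_minus_plus T1 U8p
    rw [(c8 o1).lcm_eq_mul, mul_comm] at h
    exact h
  · -- 8 (q - 1)
    have h := has_minus_plus U8m H1
    rw [(c8 hpo).symm.lcm_eq_mul] at h
    rw [e1]
    exact h

end Cfsg.Agent.Lib.SpEight.Orders
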