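import Mathlib
import Cfsg.Agent.Lib.SpEight.Orders
import Cfsg.Agent.Lib.SpSpec.Structure
import Cfsg.Agent.Lib.Classical.SympSimple

set_option autoImplicit false
set_option linter.unusedSectionVars false
set_option linter.unusedVariables false
set_option linter.unusedSimpArgs false
set_option linter.style.haveILetI false

/-!
Passage between `PSp 4 F`, `Sp 8` and the orthogonal group of minus type in even characteristic.
-/

namespace Cfsg.Agent.Lib.SpEight.Embed

open Module QuadraticMap Polynomial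
open Cfsg.Agent.Lib.Classical.Quad Cfsg.Agent.Lib.Classical.QuadOrders Cfsg.Agent.Lib.Classical.QuadHyp
open Cfsg.Agent.Lib.SpEight.Atoms Cfsg.Agent.Lib.SpEight.Models Cfsg.Agent.Lib.SpEight.Poly
open Cfsg.Agent.Lib.SpEight.Orders
open Cfsg.Agent.Lib.SpSpec.Recip Cfsg.Agent.Lib.SpSpec.Structure
open Cfsg.Agent.Lib.Classical.SympForm Cfsg.Agent.Lib.Classical.SympSimple Cfsg.Agent.Lib.Classical.Alt

universe u

variable {F : Type u} [Field F]

theorem pstar_charpoly {n : ℕ} (A : Matrix.symplecticGroup (Fin n) F) :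
    (A.1 : Matrix (Fin n ⊕ Fin n) (Fin n ⊕ Fin n) F).charpoly.coeff 0 ≠ 0 ∧
    pstar (A.1 : Matrix (Fin n ⊕ Fin n) (Fin n ⊕ Fin n) F).charpoly = (A.1 : Matrix (Fin n ⊕ Fin n) (Fin n ⊕ Fin n) F).charpoly := by
  obtain ⟨c, hc0, hc⟩ := charpoly_eq_reverse A
  generalize (A.1 : Matrix (Fin n ⊕ Fin n) (Fin n ⊕ Fin n) F) = M at hc ⊢
  have hm : M.charpoly.Monic := Matrix.charpoly_monic M
  generalize M.charpoly = χ at hc hm ⊢
  have h0' : χ.coeff 0 = c := by
    have h3 : χ.coeff 0 = c * χ.reverse.coeff 0 := by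
      conv_lhs => rw [hc]
      rw [coeff_C_mul]
    rw [h3, coeff_zero_reverse, hm.leadingCoeff, mul_one]
  have h0 : χ.coeff 0 ≠ 0 := by rw [h0']; exact hc0
  refine ⟨h0, ?_⟩
  have hrev : χ.reverse = C c⁻¹ * χ := by
    nth_rewrite 2 [hc]
    rw [← mul_assoc, ← C_mul, inv_mul_cancel₀ hc0, C_1, one_mul]
  have h1 : pstar χ = C (c⁻¹ * c⁻¹) * χ := by
    unfold pstar
    rw [h0', hrev, ← mul_assoc, ← C_mul]
  have h2 := congrArg leadingCoeff h1
  rw [(pstar_monic h0).leadingCoeff, leadingCoeff_mul, leadingCoeff_C, hm.leadingCoeff, mul_one] at h2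
  rw [h1, ← h2, C_1, one_mul]

/-- Symplectic elements of dimension eight have one of the twelve exponents. -/
theorem exists_exp_sp [Fintype F] [CharP F 2] (A : Matrix.symplecticGroup (Fin 4) F) :
    ∃ T, IsExp (Fintype.card F) T ∧ A ^ T = 1 := by
  obtain ⟨h0, hs⟩ := pstar_charpoly A
  have hm := Matrix.charpoly_monic (A.1 : Matrix (Fin 4 ⊕ Fin 4) (Fin 4 ⊕ Fin 4) F)
  have hd : (A.1 : Matrix (Fin 4 ⊕ Fin 4) (Fin 4 ⊕ Fin 4) F).charpoly.natDegree = 8 := by
    rw [Matrix.charpoly_natDegree_eq_dim]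
    simp
  obtain ⟨T, hT, hdvd⟩ := exists_exp hm hd h0 hs
  refine ⟨T, hT, ?_⟩
  apply Subtype.ext
  have h1 : aeval (A.1 : Matrix (Fin 4 ⊕ Fin 4) (Fin 4 ⊕ Fin 4) F) (X ^ T - 1 : F[X]) = 0 := by
    obtain ⟨k, hk⟩ := hdvd
    rw [hk, map_mul, Matrix.aeval_self_charpoly, zero_mul]
  simp only [map_sub, map_pow, aeval_X, map_one] at h1
  show (A.1 : Matrix (Fin 4 ⊕ Fin 4) (Fin 4 ⊕ Fin 4) F) ^ T = 1
  exact sub_eq_zero.1 h1

/-- Coordinates: the polar form of the minus-type form is the symplectic form. -/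
noncomputable def embedLin (a : F) : (Fin 4 ⊕ Fin 4 → F) →ₗ[F] ((Fin 3 ⊕ Fin 3) ⊕ Fin 2 → F) where
  toFun u := Sum.elim (Sum.elim (fun i => u (Sum.inl i.castSucc)) (fun i => u (Sum.inr i.castSucc)))
    ![u (Sum.inl (Fin.last 3)), a⁻¹ * u (Sum.inr (Fin.last 3))]
  map_add' x y := by
    funext s
    rcases s with (i | i) | i
    · rfl
    · rfl
    · fin_cases i <;> simp <;> ring
  map_smul' c x := by
    funext s
    rcases s with (i | i) | i
    · rfl
    · rfl
    · fin_cases i <;> simp <;> ring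

theorem embedLin_injective {a : F} (ha : a ≠ 0) : Function.Injective (embedLin a) := by
  rw [← LinearMap.ker_eq_bot, LinearMap.ker_eq_bot']
  intro u h
  funext s
  rcases s with i | i <;> refine Fin.lastCases ?_ (fun j => ?_) i
  · exact congrFun h (Sum.inr 0)
  · exact congrFun h (Sum.inl (Sum.inl j))
  · have h1 : a⁻¹ * u (Sum.inr (Fin.last 3)) = 0 := congrFun h (Sum.inr 1)
    exact (mul_eq_zero.1 h1).resolve_left (inv_ne_zero ha)
  · exact congrFun h (Sum.inl (Sum.inr j))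

/-- The linear isomorphism. -/
noncomputable def embedEquiv {a : F} (ha : a ≠ 0) : (Fin 4 ⊕ Fin 4 → F) ≃ₗ[F] ((Fin 3 ⊕ Fin 3) ⊕ Fin 2 → F) :=
  LinearMap.linearEquivOfInjective (embedLin a) (embedLin_injective ha) (by
    simp [Module.finrank_fintype_fun_eq_card])

theorem embedEquiv_apply {a : F} (ha : a ≠ 0) (u : Fin 4 ⊕ Fin 4 → F) : embedEquiv ha u = embedLin a u := rfl

theorem polar_embed [Finite F] [CharP F 2] {a : F} (ha : a ≠ 0) (b : F) (u v : Fin 4 ⊕ Fin 4 → F) :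
    polar (qMinus 3 a b) (embedEquiv ha u) (embedEquiv ha v) = sympForm 4 F u v := by
  have h2 : (2 : F) = 0 := CharTwo.two_eq_zero
  have haa : a * a⁻¹ = 1 := mul_inv_cancel₀ ha
  rw [sympForm_eq_sum, Fin.sum_univ_castSucc]
  rw [Fin.sum_univ_three]
  unfold polar
  rw [coe_qMinus]
  simp only [Cfsg.quadFormMinus, Fin.sum_univ_three, Pi.add_apply, embedEquiv_apply]
  set s := a⁻¹ with hs
  show ((u (Sum.inl (Fin.castSucc 0)) + v (Sum.inl (Fin.castSucc 0))) * (u (Sum.inr (Fin.castSucc 0)) + v (Sum.inr (Fin.castSucc 0))) +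
    (u (Sum.inl (Fin.castSucc 1)) + v (Sum.inl (Fin.castSucc 1))) * (u (Sum.inr (Fin.castSucc 1)) + v (Sum.inr (Fin.castSucc 1))) +
    (u (Sum.inl (Fin.castSucc 2)) + v (Sum.inl (Fin.castSucc 2))) * (u (Sum.inr (Fin.castSucc 2)) + v (Sum.inr (Fin.castSucc 2))) +
    ((u (Sum.inl (Fin.last 3)) + v (Sum.inl (Fin.last 3))) ^ 2 + a * (u (Sum.inl (Fin.last 3)) + v (Sum.inl (Fin.last 3))) * (s * u (Sum.inr (Fin.last 3)) + s * v (Sum.inr (Fin.last 3))) +
      b * (s * u (Sum.inr (Fin.last 3)) + s * v (Sum.inr (Fin.last 3))) ^ 2)) -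
    (u (Sum.inl (Fin.castSucc 0)) * u (Sum.inr (Fin.castSucc 0)) + u (Sum.inl (Fin.castSucc 1)) * u (Sum.inr (Fin.castSucc 1)) + u (Sum.inl (Fin.castSucc 2)) * u (Sum.inr (Fin.castSucc 2)) +
      (u (Sum.inl (Fin.last 3)) ^ 2 + a * u (Sum.inl (Fin.last 3)) * (s * u (Sum.inr (Fin.last 3))) + b * (s * u (Sum.inr (Fin.last 3))) ^ 2)) -
    (v (Sum.inl (Fin.castSucc 0)) * v (Sum.inr (Fin.castSucc 0)) + v (Sum.inl (Fin.castSucc 1)) * v (Sum.inr (Fin.castSucc 1)) + v (Sum.inl (Fin.castSucc 2)) * v (Sum.inr (Fin.castSucc 2)) +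
      (v (Sum.inl (Fin.last 3)) ^ 2 + a * v (Sum.inl (Fin.last 3)) * (s * v (Sum.inr (Fin.last 3))) + b * (s * v (Sum.inr (Fin.last 3))) ^ 2)) = _
  generalize u (Sum.inl (Fin.castSucc 0)) = x0
  generalize u (Sum.inl (Fin.castSucc 1)) = x1
  generalize u (Sum.inl (Fin.castSucc 2)) = x2
  generalize u (Sum.inl (Fin.last 3)) = x3
  generalize u (Sum.inr (Fin.castSucc 0)) = y0
  generalize u (Sum.inr (Fin.castSucc 1)) = y1
  generalize u (Sum.inr (Fin.castSucc 2)) = y2
  generalize u (Sum.inr (Fin.last 3)) = y3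
  generalize v (Sum.inl (Fin.castSucc 0)) = x0'
  generalize v (Sum.inl (Fin.castSucc 1)) = x1'
  generalize v (Sum.inl (Fin.castSucc 2)) = x2'
  generalize v (Sum.inl (Fin.last 3)) = x3'
  generalize v (Sum.inr (Fin.castSucc 0)) = y0'
  generalize v (Sum.inr (Fin.castSucc 1)) = y1'
  generalize v (Sum.inr (Fin.castSucc 2)) = y2'
  generalize v (Sum.inr (Fin.last 3)) = y3'
  linear_combination (x3 * y3' + y3 * x3') * haa +
    (x0 * y0' + x1 * y1' + x2 * y2' + x3 * x3' + x3 * y3' + b * s ^ 2 * y3 * y3') * h2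

variable [Finite F] [CharP F 2]

/-- Orthogonal elements are symplectic. -/
noncomputable def oToIso {a : F} (ha : a ≠ 0) (b : F) : oGroup (qMinus 3 a b) →* isomGroup (sympBilin 4 F) where
  toFun g := ⟨(embedEquiv ha).trans (g.1.trans (embedEquiv ha).symm), fun x y => by
    show sympForm 4 F _ _ = sympForm 4 F _ _
    rw [← polar_embed ha b, ← polar_embed ha b]
    simp only [LinearEquiv.trans_apply, LinearEquiv.apply_symm_apply]
    exact polar_map_of_mem g.2 _ _⟩
  map_one' := by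
    apply Subtype.ext
    ext x
    simp
  map_mul' g h := by
    apply Subtype.ext
    ext x
    simp

theorem oToIso_injective {a : F} (ha : a ≠ 0) (b : F) : Function.Injective (oToIso ha b) := by
  intro g h hgh
  apply Subtype.ext
  ext x
  have h1 := DFunLike.congr_fun (congrArg Subtype.val hgh) ((embedEquiv ha).symm x)
  have h2 : (embedEquiv ha).symm (g.1 (embedEquiv ha ((embedEquiv ha).symm x))) =
      (embedEquiv ha).symm (h.1 (embedEquiv ha ((embedEquiv ha).symm x))) := h1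
  simp only [LinearEquiv.apply_symm_apply] at h2
  have h3 := congrArg (embedEquiv ha) h2
  simp only [LinearEquiv.apply_symm_apply] at h3
  rw [h3]

/-- Every order in the orthogonal group occurs in `Sp`. -/
theorem order_mem_sp {a : F} (ha : a ≠ 0) (b : F) (g : oGroup (qMinus 3 a b)) :
    ∃ A : Matrix.symplecticGroup (Fin 4) F, orderOf A = orderOf g :=
  ⟨spEquiv.symm (oToIso ha b g), by
    rw [MulEquiv.orderOf_eq, orderOf_injective _ (oToIso_injective ha b)]⟩

/-- In characteristic two the centre of `Sp` is trivial. -/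
theorem center_sp_eq_bot : Subgroup.center (Matrix.symplecticGroup (Fin 4) F) = ⊥ := by
  rw [eq_bot_iff]
  intro A hA
  rw [Subgroup.mem_bot]
  rcases (mem_center_symplecticGroup_iff (by norm_num) A).1 hA with h | h
  · exact h
  · rw [h]
    apply Subtype.ext
    show (-1 : Matrix (Fin 4 ⊕ Fin 4) (Fin 4 ⊕ Fin 4) F) = 1
    ext i j
    simp [Matrix.neg_apply, CharTwo.neg_eq]

/-- The element orders of `PSp 4 F`. -/
theorem range_psp : Set.range (orderOf : Cfsg.PSp 4 F → ℕ) =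
    Set.range (orderOf : Matrix.symplecticGroup (Fin 4) F → ℕ) := by
  have hinj : Function.Injective (QuotientGroup.mk' (Subgroup.center (Matrix.symplecticGroup (Fin 4) F))) := by
    rw [← MonoidHom.ker_eq_bot_iff, QuotientGroup.ker_mk', center_sp_eq_bot]
  ext n
  constructor
  · rintro ⟨x, rfl⟩
    obtain ⟨A, rfl⟩ := QuotientGroup.mk'_surjective _ x
    exact ⟨A, (orderOf_injective _ hinj A).symm⟩
  · rintro ⟨A, rfl⟩
    exact ⟨QuotientGroup.mk' _ A, orderOf_injective _ hinj A⟩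

/-- The element orders of the orthogonal group. -/
theorem range_go (a b : F) : Set.range (orderOf : ↥(Cfsg.isometryGroup F (Cfsg.quadFormMinus 3 F a b)) → ℕ) =
    {r | Has (qMinus 3 a b) r} := by
  rw [← coe_qMinus]
  ext n
  constructor
  · rintro ⟨g, rfl⟩
    exact ⟨isometryEquiv (qMinus 3 a b) g, MulEquiv.orderOf_eq _ _⟩
  · rintro ⟨g, rfl⟩
    exact ⟨(isometryEquiv (qMinus 3 a b)).symm g, MulEquiv.orderOf_eq _ _⟩

theorem finite_oGroup (a b : F) : Finite (oGroup (qMinus 3 a b)) :=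
  Finite.of_equiv _ (isometryEquiv (qMinus 3 a b)).toEquiv

end Cfsg.Agent.Lib.SpEight.Embed
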